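import Groth.Agent.S1760
import Mathlib.RingTheory.TensorProduct.Maps
import Mathlib.LinearAlgebra.TensorProduct.RightExactness
import Mathlib.RingTheory.Localization.Ideal

/-!
# Closed fibres of a base change of local rings
-/

set_option autoImplicit false

universe u

open IsLocalRing TensorProduct LocCoh

namespace Groth.Agent.Lib.GorenMor.FieldExt

open Groth.Agent.Lib.Goren

variable (k k' D : Type u) [Field k] [Field k'] [Algebra k k'] [CommRing D] [IsLocalRing D]
  [IsNoetherianRing D] [Algebra k D]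

/-- Finitely generated extension of the ground field. -/
theorem gor_iff_fg [Algebra.EssFiniteType k k'] (q : Ideal (D ⊗[k] k')) [hq' : q.IsPrime]
    (hq : q.comap (algebraMap D (D ⊗[k] k')) = maximalIdeal D) :
    IsGorensteinLocalRing (Localization.AtPrime q) ↔ IsGorensteinLocalRing D :=
  (Groth.Agent.S1760.result k k' (IntermediateField.fg_top k k') D ⟨q, hq'⟩ hq).symm

/-- Any extension of the ground field, for an algebra essentially of finite type. -/
theorem gor_iff_ft [Algebra.EssFiniteType k D] (q : Ideal (D ⊗[k] k')) [hq' : q.IsPrime]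
    (hq : q.comap (algebraMap D (D ⊗[k] k')) = maximalIdeal D) :
    IsGorensteinLocalRing (Localization.AtPrime q) ↔ IsGorensteinLocalRing D := by
  have : IsNoetherianRing (D ⊗[k] k') := by
    have := Algebra.EssFiniteType.isNoetherianRing k' (k' ⊗[k] D)
    exact isNoetherianRing_of_ringEquiv _ (Algebra.TensorProduct.comm k k' D).toRingEquiv
  set p := maximalIdeal D with hpdef
  have hess : Algebra.EssFiniteType k p.ResidueField := by
    have : Algebra.EssFiniteType D p.ResidueField := inferInstance
    exact Algebra.EssFiniteType.comp k D p.ResidueField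
  have hk' : IsGorensteinRing k' := Rings.isGorensteinRing_of_isRegularRing k'
  have hfib : IsGorensteinRing (p.Fiber (D ⊗[k] k')) := by
    have := Rings.isGorensteinRing_tensor_fg k p.ResidueField k'
      (IntermediateField.fg_top k p.ResidueField)
    exact Rings.isGorensteinRing_of_ringEquiv
      (Algebra.TensorProduct.cancelBaseChange k D D p.ResidueField k').toRingEquiv.symm
  have hp : PrimeSpectrum.comap (algebraMap D (D ⊗[k] k')) ⟨q, hq'⟩ = ⟨p, inferInstance⟩ :=
    PrimeSpectrum.ext hq
  let qF := PrimeSpectrum.preimageEquivFiber D (D ⊗[k] k') ⟨p, inferInstance⟩ ⟨⟨q, hq'⟩, hp⟩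
  have hcomap : qF.asIdeal.comap
      (Algebra.TensorProduct.includeRight (R := D) (A := p.ResidueField)) = q :=
    congrArg (fun x => (Subtype.val x).asIdeal)
      ((PrimeSpectrum.preimageEquivFiber D (D ⊗[k] k') ⟨p, inferInstance⟩).symm_apply_apply
        ⟨⟨q, hq'⟩, hp⟩)
  have e : ∀ (q' : Ideal (D ⊗[k] k')) [q'.IsPrime], q' = q →
      (IsGorensteinLocalRing (Localization.AtPrime q') ↔
        IsGorensteinLocalRing (Localization.AtPrime q)) := by
    intro q' _ h
    subst h
    exact Iff.rfl
  rw [← e _ hcomap, Rings.isGorensteinLocalRing_localization_iff p qF.asIdeal,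
    and_iff_left (hfib.isGorensteinLocalRing_localization qF.asIdeal)]
  exact Flat.isGorensteinLocalRing_ringEquiv_iff
    (IsLocalization.atUnits D p.primeCompl (fun x hx => by
      exact IsLocalRing.notMem_maximalIdeal.mp hx) :
        D ≃ₐ[D] Localization.AtPrime p).toRingEquiv.symm

end Groth.Agent.Lib.GorenMor.FieldExt

namespace Groth.Agent.Lib.GorenMor.FieldExt

variable (A B A' B' : Type u) [CommRing A] [CommRing B] [CommRing A'] [CommRing B']
  [IsLocalRing A] [IsLocalRing B] [IsLocalRing A'] [IsLocalRing B']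
  [Algebra A B] [Algebra A A'] [IsLocalHom (algebraMap A B)] [IsLocalHom (algebraMap A A')]
  [Algebra (B ⊗[A] A') B']

/-- The closed fibre as an algebra over the residue field. -/
noncomputable instance closedFibreAlgebra (A B : Type u) [CommRing A] [CommRing B] [IsLocalRing A]
    [Algebra A B] : Algebra (ResidueField A) (B ⧸ (maximalIdeal A).map (algebraMap A B)) :=
  (Ideal.quotientMap ((maximalIdeal A).map (algebraMap A B)) (algebraMap A B)
    Ideal.le_comap_map).toAlgebra

instance closedFibreTower (A B : Type u) [CommRing A] [CommRing B] [IsLocalRing A] [Algebra A B] :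
    IsScalarTower A (ResidueField A) (B ⧸ (maximalIdeal A).map (algebraMap A B)) :=
  IsScalarTower.of_algebraMap_eq fun _ => rfl

set_option maxHeartbeats 1000000 in
/-- The closed fibre of the local ring of a fibre product is a local ring of the base change of the
closed fibre along the residue field extension. -/
theorem exists_closedFibre_equiv
    [IsLocalization.AtPrime B' ((maximalIdeal B').comap (algebraMap (B ⊗[A] A') B'))]
    (hB : ∀ b ∈ maximalIdeal B, algebraMap (B ⊗[A] A') B' (b ⊗ₜ[A] 1) ∈ maximalIdeal B')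
    (hA' : ∀ c ∈ maximalIdeal A', algebraMap (B ⊗[A] A') B' (1 ⊗ₜ[A] c) ∈ maximalIdeal B') :
    ∃ (q : Ideal ((B ⧸ (maximalIdeal A).map (algebraMap A B)) ⊗[ResidueField A] ResidueField A'))
      (_ : q.IsPrime),
      q.comap Algebra.TensorProduct.includeLeftRingHom =
        (maximalIdeal B).map (Ideal.Quotient.mk _) ∧
      Nonempty ((B' ⧸ (maximalIdeal A').map ((algebraMap (B ⊗[A] A') B').comp
        (RingHomClass.toRingHom (Algebra.TensorProduct.includeRight : A' →ₐ[A] B ⊗[A] A')))) ≃+*
          Localization.AtPrime q) := by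
  let D := B ⧸ (maximalIdeal A).map (algebraMap A B)
  let κ := ResidueField A
  let κ' := ResidueField A'
  have : CompatibleSMul A κ D κ' := ⟨fun r m n => by
    obtain ⟨a, rfl⟩ := IsLocalRing.residue_surjective r
    show (algebraMap A κ a) • m ⊗ₜ[A] n = m ⊗ₜ[A] ((algebraMap A κ a) • n)
    simp only [algebraMap_smul, TensorProduct.tmul_smul, TensorProduct.smul_tmul']⟩
  let π₀ : B ⊗[A] A' →ₐ[A] D ⊗[A] κ' :=
    Algebra.TensorProduct.map (Ideal.Quotient.mkₐ A _) (IsScalarTower.toAlgHom A A' κ')
  let e : D ⊗[A] κ' ≃+* D ⊗[κ] κ' :=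
    (Algebra.TensorProduct.equivOfCompatibleSMul κ A κ D κ').toRingEquiv
  let π : B ⊗[A] A' →+* D ⊗[κ] κ' := e.toRingHom.comp π₀.toRingHom
  have hm1 : Function.Surjective (Ideal.Quotient.mkₐ A ((maximalIdeal A).map (algebraMap A B))) :=
    Ideal.Quotient.mkₐ_surjective _ _
  have hm2 : Function.Surjective (IsScalarTower.toAlgHom A A' κ') := IsLocalRing.residue_surjective
  have hπ : Function.Surjective π :=
    e.surjective.comp (Algebra.TensorProduct.map_surjective _ _ hm1 hm2)
  let J : Ideal (B ⊗[A] A') := (maximalIdeal A').map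
    (RingHomClass.toRingHom (Algebra.TensorProduct.includeRight : A' →ₐ[A] B ⊗[A] A'))
  have hker : RingHom.ker π = J := by
    have h1 : RingHom.ker π = RingHom.ker π₀ := by
      ext z
      exact map_eq_zero_iff e e.injective
    rw [h1, Algebra.TensorProduct.map_ker _ _ hm1 hm2]
    have h2 : RingHom.ker (IsScalarTower.toAlgHom A A' κ') = maximalIdeal A' :=
      IsLocalRing.ker_residue
    have h3 : RingHom.ker (Ideal.Quotient.mkₐ A ((maximalIdeal A).map (algebraMap A B))) =
        (maximalIdeal A).map (algebraMap A B) := Ideal.Quotient.mkₐ_ker A _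
    rw [h2, h3]
    refine sup_eq_right.2 ?_
    rw [← Ideal.map_coe (Algebra.TensorProduct.includeLeft : B →ₐ[A] B ⊗[A] A'), Ideal.map_map,
      Ideal.map_le_iff_le_comap]
    intro a ha
    rw [Ideal.mem_comap, RingHom.comp_apply, RingHom.coe_coe, AlgHom.commutes,
      show algebraMap A (B ⊗[A] A') a =
        (Algebra.TensorProduct.includeRight : A' →ₐ[A] B ⊗[A] A') (algebraMap A A' a) from
        ((Algebra.TensorProduct.includeRight : A' →ₐ[A] B ⊗[A] A').commutes a).symm]
    exact Ideal.mem_map_of_mem _ (fun hu => ha ((isUnit_map_iff (algebraMap A A') a).1 hu))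
  let P : Ideal (B ⊗[A] A') := (maximalIdeal B').comap (algebraMap (B ⊗[A] A') B')
  have hJP : J ≤ P := Ideal.map_le_iff_le_comap.2 fun c hc => hA' c hc
  let q : Ideal (D ⊗[κ] κ') := P.map π
  have hq : q.IsPrime := Ideal.map_isPrime_of_surjective hπ (hker.trans_le hJP)
  have hcq : q.comap π = P := by
    rw [Ideal.comap_map_of_surjective' π hπ, hker, sup_eq_left.2 hJP]
  refine ⟨q, hq, ?_, ?_⟩
  · ext d
    obtain ⟨b, rfl⟩ := Ideal.Quotient.mk_surjective d
    have h4 : π (b ⊗ₜ[A] 1) = (Ideal.Quotient.mk _ b : D) ⊗ₜ[κ] (1 : κ') := by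
      show e (π₀ (b ⊗ₜ[A] 1)) = _
      simp [π₀, e]
      rfl
    rw [Ideal.mem_comap, Ideal.mem_quotient_iff_mem
      (IsLocalRing.map_maximalIdeal_le (algebraMap A B))]
    show (Ideal.Quotient.mk _ b : D) ⊗ₜ[κ] (1 : κ') ∈ q ↔ _
    rw [← h4, ← Ideal.mem_comap, hcq]
    refine ⟨fun h => ?_, hB b⟩
    intro hu
    exact h (((hu.map (Algebra.TensorProduct.includeLeft : B →ₐ[A] B ⊗[A] A')).map
      (algebraMap (B ⊗[A] A') B')))
  · let I : Ideal B' := (maximalIdeal A').map ((algebraMap (B ⊗[A] A') B').comp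
      (RingHomClass.toRingHom (Algebra.TensorProduct.includeRight : A' →ₐ[A] B ⊗[A] A')))
    have hI : I = (RingHom.ker π).map (algebraMap (B ⊗[A] A') B') := by
      rw [hker, Ideal.map_map]
    let φ : D ⊗[κ] κ' →+* B' ⧸ I :=
      (Ideal.Quotient.lift (RingHom.ker π) ((Ideal.Quotient.mk I).comp (algebraMap (B ⊗[A] A') B'))
        (fun z hz => by
          rw [RingHom.comp_apply, Ideal.Quotient.eq_zero_iff_mem, hI]
          exact Ideal.mem_map_of_mem _ hz)).comp
        (RingHom.quotientKerEquivOfSurjective hπ).symm.toRingHom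
    let _ : Algebra (D ⊗[κ] κ') (B' ⧸ I) := φ.toAlgebra
    have hcomp : (Ideal.Quotient.mk I).comp (algebraMap (B ⊗[A] A') B') =
        (algebraMap (D ⊗[κ] κ') (B' ⧸ I)).comp π := by
      refine RingHom.ext fun z => ?_
      show _ = φ (π z)
      simp only [φ, RingHom.comp_apply]
      rw [show (RingHom.quotientKerEquivOfSurjective hπ).symm.toRingHom (π z) =
        Ideal.Quotient.mk _ z from (RingEquiv.symm_apply_eq _).2 rfl]
      rfl
    have hloc := IsLocalization.of_surjective P.primeCompl B' π hπ (Ideal.Quotient.mk I)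
      Ideal.Quotient.mk_surjective hcomp (by rw [Ideal.mk_ker, hI])
    have hM : P.primeCompl.map π = q.primeCompl := by
      ext d
      constructor
      · rintro ⟨z, hz, rfl⟩ hd
        exact hz (hcq ▸ Ideal.mem_comap.2 hd)
      · intro hd
        obtain ⟨z, rfl⟩ := hπ d
        exact ⟨z, fun hz => hd (Ideal.mem_map_of_mem π hz), rfl⟩
    rw [hM] at hloc
    exact ⟨(IsLocalization.algEquiv q.primeCompl (B' ⧸ I) (Localization.AtPrime q)).toRingEquiv⟩

end Groth.Agent.Lib.GorenMor.FieldExt
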