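import Groth.Agent.Lib.BettiExact.StalkTensor
import Mathlib.AlgebraicGeometry.Morphisms.FlatMono

/-!
# Local rings of a fibre product as localizations of tensor products of local rings
-/

set_option autoImplicit false

universe u

open CategoryTheory CategoryTheory.Limits AlgebraicGeometry TensorProduct

namespace Groth.Agent.Lib.GorenMor.StalkLoc

open Groth.Agent.H52.FDesc.BaseChangeFlat Groth.Agent.Lib.BettiExact.StalkTensor

/-- A local ring which is flat and a monomorphism over a ring is a localization of it at a prime. -/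
theorem isLocalization_of_mono_of_flat (T L : Type u) [CommRing T] [CommRing L] [IsLocalRing L]
    [Algebra T L] [Module.Flat T L]
    (hm : Mono (Spec.map (CommRingCat.ofHom (algebraMap T L)))) :
    IsLocalization.AtPrime L ((IsLocalRing.maximalIdeal L).comap (algebraMap T L)) := by
  let q : Ideal T := (IsLocalRing.maximalIdeal L).comap (algebraMap T L)
  have hunit : ∀ y : q.primeCompl, IsUnit (algebraMap T L y) := fun y => by
    by_contra h
    exact y.2 h
  let ψ : Localization.AtPrime q →+* L := IsLocalization.lift (M := q.primeCompl) hunit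
  let _ : Algebra (Localization.AtPrime q) L := ψ.toAlgebra
  have : IsScalarTower T (Localization.AtPrime q) L :=
    .of_algebraMap_eq fun t => (IsLocalization.lift_eq hunit t).symm
  have : Module.Flat (Localization.AtPrime q) L :=
    (Module.flat_iff_of_isLocalization (Localization.AtPrime q) q.primeCompl L).2 inferInstance
  have : IsLocalHom (algebraMap (Localization.AtPrime q) L) := ⟨fun z hz => by
    obtain ⟨⟨t, s⟩, rfl⟩ := IsLocalization.mk'_surjective q.primeCompl z
    refine (IsLocalization.AtPrime.isUnit_mk'_iff (Localization.AtPrime q) q t s).2 fun ht => ?_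
    have h1 : algebraMap (Localization.AtPrime q) L (IsLocalization.mk' _ t s) *
        algebraMap T L s = algebraMap T L t := by
      rw [IsScalarTower.algebraMap_apply T (Localization.AtPrime q) L (s : T), ← map_mul,
        IsLocalization.mk'_spec, ← IsScalarTower.algebraMap_apply]
    exact ht (h1 ▸ hz.mul (hunit s))⟩
  have := Module.FaithfullyFlat.of_flat_of_isLocalHom (A := Localization.AtPrime q) (B := L)
  let b := Spec.map (CommRingCat.ofHom ψ)
  have : Mono b := by
    have := hm
    have key : b ≫ Spec.map (CommRingCat.ofHom (algebraMap T (Localization.AtPrime q))) =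
        Spec.map (CommRingCat.ofHom (algebraMap T L)) :=
      (Spec.map_comp _ _).symm.trans
        (congrArg Spec.map (by ext t; exact (IsLocalization.lift_eq hunit t)))
    exact mono_of_mono_fac key
  have : Flat b := (HasRingHomProperty.Spec_iff (P := @Flat)).2 (RingHom.flat_algebraMap_iff.2 ‹_›)
  have : Surjective b := ⟨PrimeSpectrum.comap_surjective_of_faithfullyFlat⟩
  have : IsIso b := Flat.isIso_of_surjective_of_mono b
  have : IsIso (CommRingCat.ofHom ψ) := by
    have : IsIso (Scheme.Spec.map (CommRingCat.ofHom ψ).op) := ‹IsIso b›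
    have := isIso_of_reflects_iso (CommRingCat.ofHom ψ).op Scheme.Spec
    exact (isIso_op_iff _).1 this
  exact IsLocalization.isLocalization_of_algEquiv q.primeCompl
    (AlgEquiv.ofBijective (IsScalarTower.toAlgHom T (Localization.AtPrime q) L)
      (ConcreteCategory.bijective_of_isIso (CommRingCat.ofHom ψ)))

variable {X Y Y' W : Scheme.{u}} {f : X ⟶ Y} {g : Y' ⟶ Y} {p₀ : W ⟶ X} {q₀ : W ⟶ Y'}
  (hW : IsPullback p₀ q₀ f g) (x' : W)

/-- The local ring at a point of a fibre product is a localization of the tensor product of the local rings. -/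
theorem exists_localization :
    letI : Algebra (Y.presheaf.stalk (f (p₀ x'))) (X.presheaf.stalk (p₀ x')) :=
      (f.stalkMap (p₀ x')).hom.toAlgebra
    letI : Algebra (Y.presheaf.stalk (f (p₀ x'))) (Y'.presheaf.stalk (q₀ x')) :=
      (baseMap hW x').toAlgebra
    ∃ θ : (X.presheaf.stalk (p₀ x') ⊗[Y.presheaf.stalk (f (p₀ x'))]
        Y'.presheaf.stalk (q₀ x')) →+* W.presheaf.stalk x',
      (letI := θ.toAlgebra; IsLocalization.AtPrime (W.presheaf.stalk x')
        ((IsLocalRing.maximalIdeal (W.presheaf.stalk x')).comap θ)) ∧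
      θ.comp Algebra.TensorProduct.includeLeftRingHom = ((p₀).stalkMap x').hom ∧
      θ.comp (RingHomClass.toRingHom Algebra.TensorProduct.includeRight) = ((q₀).stalkMap x').hom := by
  let p := p₀
  let q := q₀
  let R := Y.presheaf.stalk (f (p x'))
  let A := X.presheaf.stalk (p x')
  let S := Y'.presheaf.stalk (q x')
  let L := W.presheaf.stalk x'
  have hyy : g (q x') ⤳ f (p x') := by
    rw [← Scheme.Hom.comp_apply, ← Scheme.Hom.comp_apply, hW.w]
  let φ : R ⟶ A := f.stalkMap (p x')
  let ψ : R ⟶ S := Y.presheaf.stalkSpecializes hyy ≫ g.stalkMap (q x')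
  let πA : A ⟶ L := p.stalkMap x'
  let πS : S ⟶ L := q.stalkMap x'
  have hψ : Spec.map ψ ≫ Y.fromSpecStalk (f (p x')) = Y'.fromSpecStalk (q x') ≫ g := by
    rw [Spec.map_comp, Category.assoc, Scheme.SpecMap_stalkSpecializes_fromSpecStalk,
      Scheme.SpecMap_stalkMap_fromSpecStalk]
  have hcomm : φ ≫ πA = ψ ≫ πS := by
    apply Spec.map_injective
    rw [← cancel_mono (Y.fromSpecStalk (f (p x'))), Spec.map_comp, Spec.map_comp, Category.assoc,
      Category.assoc, hψ, Scheme.SpecMap_stalkMap_fromSpecStalk, ← Category.assoc, ← Category.assoc,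
      Scheme.SpecMap_stalkMap_fromSpecStalk, Scheme.SpecMap_stalkMap_fromSpecStalk,
      Category.assoc, Category.assoc, hW.w]
  let _ : Algebra R A := φ.hom.toAlgebra
  let _ : Algebra R S := ψ.hom.toAlgebra
  let _ : Algebra A L := πA.hom.toAlgebra
  let _ : Algebra R L := (πA.hom.comp φ.hom).toAlgebra
  have : IsScalarTower R A L := IsScalarTower.of_algebraMap_eq fun _ => rfl
  let iS : S →ₐ[R] L :=
    { πS.hom with commutes' := fun r => (congr($(hcomm).hom r)).symm }
  let θ : A ⊗[R] S →ₐ[A] L :=
    Algebra.TensorProduct.lift (Algebra.ofId A L) iS fun _ _ => Commute.all _ _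
  let _ : Algebra (A ⊗[R] S) L := θ.toRingHom.toAlgebra
  have : IsScalarTower A (A ⊗[R] S) L := IsScalarTower.of_algebraMap_eq fun a => (θ.commutes a).symm
  -- the flatness of `θ`
  let inl : Spec (CommRingCat.of (A ⊗[R] S)) ⟶ Spec A :=
    Spec.map (CommRingCat.ofHom (Algebra.TensorProduct.includeLeftRingHom : A →+* A ⊗[R] S))
  let inr : Spec (CommRingCat.of (A ⊗[R] S)) ⟶ Spec S :=
    Spec.map (CommRingCat.ofHom (Algebra.TensorProduct.includeRight : S →ₐ[R] A ⊗[R] S).toRingHom)
  have hin : inl ≫ Spec.map φ = inr ≫ Spec.map ψ := by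
    refine (Spec.map_comp φ _).symm.trans ((congrArg Spec.map ?_).trans (Spec.map_comp ψ _))
    ext r
    exact Algebra.TensorProduct.tmul_one_eq_one_tmul (A := A) (B := S) r
  let j : Spec (CommRingCat.of (A ⊗[R] S)) ⟶ W :=
    hW.lift (inl ≫ X.fromSpecStalk (p x')) (inr ≫ Y'.fromSpecStalk (q x')) (by
      rw [Category.assoc, Category.assoc, ← Scheme.SpecMap_stalkMap_fromSpecStalk, ← hψ,
        ← Category.assoc, hin, Category.assoc])
  have hj : Mono j := ⟨fun {W} u v huv => by
    have h1 := congr($huv ≫ p₀)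
    have h2 := congr($huv ≫ q₀)
    simp only [Category.assoc, j, hW.lift_fst, hW.lift_snd] at h1 h2
    rw [← Category.assoc, ← Category.assoc, cancel_mono] at h1 h2
    rw [← cancel_mono (pullbackSpecIso R A S).inv]
    ext1 <;> rw [Category.assoc, Category.assoc]
    · rw [pullbackSpecIso_inv_fst]; exact h1
    · rw [pullbackSpecIso_inv_snd]; exact h2⟩
  let a : Spec L ⟶ Spec (CommRingCat.of (A ⊗[R] S)) :=
    Spec.map (CommRingCat.ofHom θ.toRingHom : CommRingCat.of (A ⊗[R] S) ⟶ L)
  have haj : a ≫ j = W.fromSpecStalk x' := by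
    have hA : a ≫ inl = Spec.map πA := by
      refine (Spec.map_comp (_ : A ⟶ CommRingCat.of (A ⊗[R] S)) _).symm.trans (congrArg Spec.map ?_)
      ext z; show θ (z ⊗ₜ 1) = πA.hom z; simp [θ]; rfl
    have hS : a ≫ inr = Spec.map πS := by
      refine (Spec.map_comp (_ : S ⟶ CommRingCat.of (A ⊗[R] S)) _).symm.trans (congrArg Spec.map ?_)
      ext z; show θ (1 ⊗ₜ z) = πS.hom z; simp [θ, iS]
    apply hW.hom_ext
    · rw [Category.assoc, hW.lift_fst, ← Category.assoc, hA,
        Scheme.SpecMap_stalkMap_fromSpecStalk]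
    · rw [Category.assoc, hW.lift_snd, ← Category.assoc, hS,
        Scheme.SpecMap_stalkMap_fromSpecStalk]
  have : Flat a := MorphismProperty.of_isPullback (P := @Flat)
    (isPullback_of_mono a j _ haj).flip (Groth.Agent.H52.FBase.StalkBC.flat_fromSpecStalk x')
  have hflat : Module.Flat (A ⊗[R] S) L := (HasRingHomProperty.Spec_iff (P := @Flat)).mp this
  refine ⟨θ.toRingHom, ?_, RingHom.ext fun z => by show θ (z ⊗ₜ 1) = πA.hom z; simp [θ]; rfl,
    RingHom.ext fun z => by show θ (1 ⊗ₜ z) = πS.hom z; simp [θ, iS]⟩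
  have : Mono (W.fromSpecStalk x') := inferInstance
  have ha : Mono a := mono_of_mono_fac haj
  exact isLocalization_of_mono_of_flat (A ⊗[R] S) L ha

end Groth.Agent.Lib.GorenMor.StalkLoc
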