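import Groth.Agent.Lib.GorenMor.Comp
import Groth.Agent.Lib.GorenMor.StalkLoc
import Groth.Agent.Lib.GorenMor.FieldExt
import Groth.Agent.Lib.Flat55.FlatOverAt
import Groth.Agent.Lib.Flat55.FlatDescend

/-!
# Base change of Gorenstein morphisms
-/

set_option autoImplicit false

universe u

open CategoryTheory CategoryTheory.Limits AlgebraicGeometry IsLocalRing LocCoh TensorProduct

namespace Groth.Agent.Lib.GorenMor.BaseChange

open Groth.Agent.Lib.BettiExact.StalkTensor Groth.Agent.Lib.Goren.Flat

section Ring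

variable (A B A' B' : Type u) [CommRing A] [CommRing B] [CommRing A'] [CommRing B']
  [IsLocalRing A] [IsLocalRing B] [IsLocalRing A'] [IsLocalRing B']
  [Algebra A B] [Algebra A A'] [IsLocalHom (algebraMap A B)] [IsLocalHom (algebraMap A A')]

set_option maxHeartbeats 1000000 in
/-- Closed fibres of a base change of local rings: same Gorenstein property. -/
theorem closedFibre_iff (θ : B ⊗[A] A' →+* B')
    (hloc : letI := θ.toAlgebra; IsLocalization.AtPrime B' ((maximalIdeal B').comap θ))
    (hB : ∀ b ∈ maximalIdeal B, θ (b ⊗ₜ[A] 1) ∈ maximalIdeal B')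
    (hA' : ∀ c ∈ maximalIdeal A', θ (1 ⊗ₜ[A] c) ∈ maximalIdeal B')
    (hN : IsNoetherianRing (B ⧸ (maximalIdeal A).map (algebraMap A B)))
    (hft : Algebra.EssFiniteType A A' ∨ Algebra.EssFiniteType A B) :
    IsGorensteinLocalRing (B ⧸ (maximalIdeal A).map (algebraMap A B)) ↔
      IsGorensteinLocalRing (B' ⧸ (maximalIdeal A').map (θ.comp
        (RingHomClass.toRingHom
          (Algebra.TensorProduct.includeRight : A' →ₐ[A] B ⊗[A] A')))) := by
  let _ := θ.toAlgebra
  have : IsLocalization.AtPrime B' ((maximalIdeal B').comap (algebraMap (B ⊗[A] A') B')) := hloc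
  obtain ⟨q, hq, hcomap, ⟨e⟩⟩ := FieldExt.exists_closedFibre_equiv A B A' B' hB hA'
  let D := B ⧸ (maximalIdeal A).map (algebraMap A B)
  have : Nontrivial D :=
    Ideal.Quotient.nontrivial_iff.mpr (IsLocalRing.map_maximalIdeal_lt_top _).ne
  have : IsLocalRing D := IsLocalRing.of_surjective' _ Ideal.Quotient.mk_surjective
  have : IsNoetherianRing D := hN
  have hqm : q.comap (algebraMap D (D ⊗[ResidueField A] ResidueField A')) = maximalIdeal D :=
    hcomap.trans (IsLocalRing.map_maximalIdeal_of_surjective _ Ideal.Quotient.mk_surjective)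
  refine Iff.trans ?_ (isGorensteinLocalRing_ringEquiv_iff (S := Localization.AtPrime q) e).symm
  rcases hft with h | h
  · have : Algebra.EssFiniteType A (ResidueField A') := by
      have := h
      have : Algebra.FiniteType A' (ResidueField A') :=
        Algebra.FiniteType.of_surjective (Algebra.ofId A' (ResidueField A')) residue_surjective
      exact Algebra.EssFiniteType.comp A A' (ResidueField A')
    have : Algebra.EssFiniteType (ResidueField A) (ResidueField A') :=
      Algebra.EssFiniteType.of_comp A (ResidueField A) (ResidueField A')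
    exact (FieldExt.gor_iff_fg (ResidueField A) (ResidueField A') D q hqm).symm
  · have : Algebra.EssFiniteType A D := by
      have := h
      have : Algebra.FiniteType B D :=
        Algebra.FiniteType.of_surjective (Algebra.ofId B D) Ideal.Quotient.mk_surjective
      exact Algebra.EssFiniteType.comp A B D
    have : Algebra.EssFiniteType (ResidueField A) D :=
      Algebra.EssFiniteType.of_comp A (ResidueField A) D
    exact (FieldExt.gor_iff_ft (ResidueField A) (ResidueField A') D q hqm).symm

end Ring

variable {X Y X' Y' : Scheme.{u}} {f : X ⟶ Y} {f' : X' ⟶ Y'} {g' : X' ⟶ X} {g : Y' ⟶ Y}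

theorem isLocalHom_baseMap (hc : IsPullback g' f' f g) (x' : X') :
    IsLocalHom (baseMap hc x') := by
  have h : g (f' x') = f (g' x') := by
    rw [← Scheme.Hom.comp_apply, ← Scheme.Hom.comp_apply, hc.w]
  have : IsIso (Y.presheaf.stalkSpecializes (specializes_of_eq h)) :=
    (Y.presheaf.stalkCongr (Inseparable.of_eq h.symm)).isIso_hom
  have : IsLocalHom (Y.presheaf.stalkSpecializes (specializes_of_eq h)).hom :=
    isLocalHom_of_isIso _
  have : IsLocalHom (g.stalkMap (f' x')).hom := g.toLRSHom.prop _
  exact RingHom.isLocalHom_comp (g.stalkMap (f' x')).hom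
    (Y.presheaf.stalkSpecializes (specializes_of_eq h)).hom

theorem essFiniteType_baseMap [LocallyOfFiniteType g] (hc : IsPullback g' f' f g) (x' : X') :
    (baseMap hc x').EssFiniteType := by
  have h : g (f' x') = f (g' x') := by
    rw [← Scheme.Hom.comp_apply, ← Scheme.Hom.comp_apply, hc.w]
  have : IsIso (Y.presheaf.stalkSpecializes (specializes_of_eq h)) :=
    (Y.presheaf.stalkCongr (Inseparable.of_eq h.symm)).isIso_hom
  refine RingHom.EssFiniteType.stableUnderComposition _ _ ?_ (LocallyOfFiniteType.stalkMap g (f' x'))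
  exact RingHom.FiniteType.essFiniteType
    (RingHom.FiniteType.of_surjective _
      (ConcreteCategory.bijective_of_isIso (Y.presheaf.stalkSpecializes (specializes_of_eq h))).2)

set_option maxHeartbeats 1000000 in
/-- Local rings of the fibres are simultaneously Gorenstein. -/
theorem fibre_iff' (hc : IsPullback g' f' f g) (x' : X')
    (hN : IsNoetherianRing (X.presheaf.stalk (g' x') ⧸
      (maximalIdeal (Y.presheaf.stalk (f (g' x')))).map (f.stalkMap (g' x')).hom))
    (hft : LocallyOfFiniteType g ∨ LocallyOfFiniteType f) :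
    IsGorensteinLocalRing (X.presheaf.stalk (g' x') ⧸
        (maximalIdeal (Y.presheaf.stalk (f (g' x')))).map (f.stalkMap (g' x')).hom) ↔
      IsGorensteinLocalRing (X'.presheaf.stalk x' ⧸
        (maximalIdeal (Y'.presheaf.stalk (f' x'))).map (f'.stalkMap x').hom) := by
  let _ : Algebra (Y.presheaf.stalk (f (g' x'))) (X.presheaf.stalk (g' x')) :=
    (f.stalkMap (g' x')).hom.toAlgebra
  let _ : Algebra (Y.presheaf.stalk (f (g' x'))) (Y'.presheaf.stalk (f' x')) :=
    (baseMap hc x').toAlgebra
  obtain ⟨θ, hloc, hl, hr⟩ := StalkLoc.exists_localization hc x'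
  have : IsLocalHom (algebraMap (Y.presheaf.stalk (f (g' x'))) (X.presheaf.stalk (g' x'))) :=
    f.toLRSHom.prop (g' x')
  have : IsLocalHom (algebraMap (Y.presheaf.stalk (f (g' x'))) (Y'.presheaf.stalk (f' x'))) :=
    isLocalHom_baseMap hc x'
  have hB : ∀ b ∈ maximalIdeal (X.presheaf.stalk (g' x')),
      θ (b ⊗ₜ 1) ∈ maximalIdeal (X'.presheaf.stalk x') := fun b hb hu => hb (by
    rw [show θ (b ⊗ₜ 1) = (g'.stalkMap x').hom b from congr($hl b)] at hu
    exact isUnit_of_map_unit (g'.stalkMap x').hom b hu)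
  have hA' : ∀ c ∈ maximalIdeal (Y'.presheaf.stalk (f' x')),
      θ (1 ⊗ₜ c) ∈ maximalIdeal (X'.presheaf.stalk x') := fun c hc' hu => hc' (by
    rw [show θ (1 ⊗ₜ c) = (f'.stalkMap x').hom c from congr($hr c)] at hu
    exact isUnit_of_map_unit (f'.stalkMap x').hom c hu)
  have hft' : Algebra.EssFiniteType (Y.presheaf.stalk (f (g' x'))) (Y'.presheaf.stalk (f' x')) ∨
      Algebra.EssFiniteType (Y.presheaf.stalk (f (g' x'))) (X.presheaf.stalk (g' x')) := by
    rcases hft with h | h
    · exact Or.inl (RingHom.essFiniteType_algebraMap.1 (essFiniteType_baseMap hc x'))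
    · exact Or.inr (RingHom.essFiniteType_algebraMap.1 (LocallyOfFiniteType.stalkMap f (g' x')))
  have key := closedFibre_iff (Y.presheaf.stalk (f (g' x'))) (X.presheaf.stalk (g' x'))
    (Y'.presheaf.stalk (f' x')) (X'.presheaf.stalk x') θ hloc hB hA'
    hN hft'
  rw [hr] at key
  exact key

/-- Local rings of the fibres are simultaneously Gorenstein. -/
theorem fibre_iff (hc : IsPullback g' f' f g) (x' : X')
    (hN : IsLocallyNoetherian (f.fiber (f (g' x'))))
    (hft : LocallyOfFiniteType g ∨ LocallyOfFiniteType f) :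
    IsGorensteinLocalRing (X.presheaf.stalk (g' x') ⧸
        (maximalIdeal (Y.presheaf.stalk (f (g' x')))).map (f.stalkMap (g' x')).hom) ↔
      IsGorensteinLocalRing (X'.presheaf.stalk x' ⧸
        (maximalIdeal (Y'.presheaf.stalk (f' x'))).map (f'.stalkMap x').hom) :=
  fibre_iff' hc x' (H54.CMMor.isNoetherianRing_quotient f (g' x') hN) hft

theorem flat_baseChange (hc : IsPullback g' f' f g) (x' : X')
    (h : (f.stalkMap (g' x')).hom.Flat) : (f'.stalkMap x').hom.Flat := by
  have h0 : g' x' = pullback.fst f g (hc.isoPullback.hom x') := by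
    rw [← Scheme.Hom.comp_apply, hc.isoPullback_hom_fst]
  have h1 := Lib.Flat55.FlatOverAt.flat_stalkMap_snd f g (hc.isoPullback.hom x') (h0 ▸ h)
  exact Lib.Flat55.FlatOverAt.flat_stalkMap_iso_comp hc.isoPullback.hom (pullback.snd f g) _
    hc.isoPullback_hom_snd x' h1

theorem isGorensteinAt_baseChange (hc : IsPullback g' f' f g) (x' : X')
    (hN : IsLocallyNoetherian (f.fiber (f (g' x'))))
    (hft : LocallyOfFiniteType g ∨ LocallyOfFiniteType f)
    (h : Dual3.IsGorensteinAt f (g' x')) : Dual3.IsGorensteinAt f' x' := by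
  rw [Comp.isGorensteinAt_iff] at h ⊢
  exact ⟨flat_baseChange hc x' h.1, (fibre_iff hc x' hN hft).1 h.2⟩

theorem isGorensteinAt_baseChange' (hc : IsPullback g' f' f g) (x' : X')
    (hft : LocallyOfFiniteType g ∨ LocallyOfFiniteType f)
    (h : Dual3.IsGorensteinAt f (g' x')) : Dual3.IsGorensteinAt f' x' := by
  rw [Comp.isGorensteinAt_iff] at h ⊢
  exact ⟨flat_baseChange hc x' h.1, (fibre_iff' hc x' h.2.toIsNoetherian hft).1 h.2⟩

theorem isGorensteinAt_of_baseChange (hc : IsPullback g' f' f g) (x' : X')
    (hN : IsLocallyNoetherian (f.fiber (f (g' x'))))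
    (hft : LocallyOfFiniteType g ∨ LocallyOfFiniteType f)
    (hflat : (f.stalkMap (g' x')).hom.Flat)
    (h : Dual3.IsGorensteinAt f' x') : Dual3.IsGorensteinAt f (g' x') := by
  rw [Comp.isGorensteinAt_iff] at h ⊢
  exact ⟨hflat, (fibre_iff hc x' hN hft).2 h.2⟩

/-- Flatness descends when the base change map is flat at the point. -/
theorem flat_of_baseChange (hc : IsPullback g' f' f g) (x' : X')
    (hflat : (g.stalkMap (f' x')).hom.Flat) (h : (f'.stalkMap x').hom.Flat) :
    (f.stalkMap (g' x')).hom.Flat := by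
  refine Lib.Flat55.FlatDescend.flat_stalkMap_of_comp g' f x'
    (Lib.Flat55.FlatOverAt.flat_stalkMap_of_isPullback f f' g' g hc x' hflat) ?_
  have h2 : ((f' ≫ g).stalkMap x').hom.Flat := by
    rw [Scheme.Hom.stalkMap_comp]
    exact hflat.comp h
  exact hc.w.symm ▸ h2

/-- Fibres of a morphism locally of finite type are locally Noetherian. -/
theorem isLocallyNoetherian_fiber [LocallyOfFiniteType f] (y : Y) :
    IsLocallyNoetherian (f.fiber y) :=
  have : LocallyOfFiniteType (f.fiberToSpecResidueField y) :=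
    MorphismProperty.of_isPullback (P := @LocallyOfFiniteType)
      (IsPullback.of_hasPullback f (Y.fromSpecResidueField y)) ‹_›
  LocallyOfFiniteType.isLocallyNoetherian (f.fiberToSpecResidueField y)

end Groth.Agent.Lib.GorenMor.BaseChange
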