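import Groth.Agent.Lib.DMod.GorFibrePrime
import Mathlib.Algebra.Category.ModuleCat.Ext.Finite

/-!
# The Gorenstein locus of a flat algebra of finite type over a Noetherian ring is open
-/

set_option autoImplicit false
set_option linter.style.haveILetI false

universe u

open IsLocalRing CategoryTheory
open Groth.Agent.Lib.DMod Groth.Agent.Lib.DMod.FibreRed Groth.Agent.Lib.DMod.LocalExtCI
open Groth.Agent.Lib.DMod.ExtFibre

namespace Groth.Agent.Lib.GorenMor.OpenRing

section Lift

variable {R C : Type u} [CommRing R] [CommRing C] [IsLocalRing R] [Algebra R C]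
  [IsNoetherianRing R] [IsLocalRing C] [IsNoetherianRing C] [IsLocalHom (algebraMap R C)]
  [Module.Flat R C]

/-- The projective dimension of a flat module is bounded by that of its closed fibre. -/
theorem pdle_lift : ∀ (d : ℕ) (M : Type u) [AddCommGroup M] [Module C M] [Module R M]
    [IsScalarTower R C M] [Module.Finite C M] [Module.Flat R M],
    Regular.PD.PDle (C ⧸ fa R C) (Bar R C M) d → Regular.PD.PDle C M d := by
  intro d
  induction d with
  | zero =>
    intro M _ _ _ _ _ _ hd
    have := free_of_pdle_zero (R := R) (C := C) M hd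
    exact Regular.PD.pdle_zero_iff.2 inferInstance
  | succ d ih =>
    intro M _ _ _ _ _ _ hd
    obtain ⟨n, π, hπ, hflat, -, -, -, -, hpd⟩ := exists_cover (R := R) (C := C) M
    exact (Regular.PD.pdle_succ_iff hπ d).2 (ih (LinearMap.ker π) (hpd d hd))

end Lift

variable {R : Type u} [CommRing R] [IsNoetherianRing R] {n : ℕ} {A : Type u} [CommRing A]
  [Algebra (MvPolynomial (Fin n) R) A] [Algebra R A] [IsScalarTower R (MvPolynomial (Fin n) R) A]
  (hsurj : Function.Surjective (algebraMap (MvPolynomial (Fin n) R) A))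

include hsurj in
/-- The local `Ext` vanishes above the relative dimension. -/
theorem subsingleton_lext [Module.Flat R A] (q : Ideal A) [q.IsPrime] (i : ℕ) (hi : n < i) :
    Subsingleton (LExt (P := MvPolynomial (Fin n) R) A q i) := by
  let Q := q.comap (algebraMap (MvPolynomial (Fin n) R) A)
  let C := Localization.AtPrime Q
  let Rp := Localization.AtPrime (Q.comap (algebraMap R (MvPolynomial (Fin n) R)))
  letI : Algebra Rp C := GorFibrePrime.algLoc Q
  let J : Ideal C := locKer A q
  obtain ⟨hloc, htower, hflat, hflatJ', hJ, hreg, -, hdim, -⟩ := GorFibrePrime.setup (n := n) hsurj q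
  have := hflatJ' inferInstance
  obtain ⟨d, hd, -⟩ := Regular.Quotient.exists_dim_eq (R := C ⧸ fa Rp C)
  have hdn : d ≤ n := by
    rw [hd] at hdim
    exact_mod_cast hdim
  have h := pdle_lift (R := Rp) (C := C) d (C ⧸ J) (GorFibreLocal.pdle_of_dim hreg hd _)
  exact HasProjectiveDimensionLT.subsingleton (hX := h) _ (d + 1) i (by omega) _

include hsurj in
/-- Being Gorenstein on the fibre spreads to a neighbourhood. -/
theorem exists_nhd [Module.Flat R A] (q : Ideal A) [q.IsPrime]
    (hG : LocCoh.IsGorensteinLocalRing (GorFibrePrime.FibreAt R q)) :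
    ∃ t : A, t ∉ q ∧ ∀ (q' : Ideal A) [q'.IsPrime], t ∉ q' →
      LocCoh.IsGorensteinLocalRing (GorFibrePrime.FibreAt R q') := by
  classical
  let P := MvPolynomial (Fin n) R
  obtain ⟨c, hc, hv, hiso⟩ := (GorFibrePrime.prime_iff (n := n) hsurj q).1 hG
  obtain ⟨hv', x, hgen, hann⟩ := structure_of_local hsurj q c hv hiso
  have hfinA : Module.Finite P A := Module.Finite.of_surjective (Algebra.linearMap P A) hsurj
  let Q := q.comap (algebraMap P A)
  have hone : (1 : P) ∈ Q.primeCompl := Q.primeCompl.one_mem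
  -- the other `Ext` groups
  have hkill : ∀ i, i ≠ c → ∃ s : P, s ∈ Q.primeCompl ∧
      ∀ y : Abelian.Ext (ModuleCat.of P A) (ModuleCat.of P P) i, s • y = 0 := by
    intro i hi
    obtain ⟨F, hF⟩ := (inferInstance :
      Module.Finite P (Abelian.Ext (ModuleCat.of P A) (ModuleCat.of P P) i))
    choose s hs hsy using fun y : F => hv' i hi y.1
    refine ⟨∏ y, s y, Submonoid.prod_mem _ fun y _ => hs y, fun y => ?_⟩
    have hy : y ∈ Submodule.span P (F : Set _) := by rw [hF]; trivial
    induction hy using Submodule.span_induction with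
    | mem z hz =>
      obtain ⟨k, hk⟩ := Finset.dvd_prod_of_mem s (Finset.mem_univ (⟨z, hz⟩ : F))
      rw [hk, mul_comm, mul_smul, hsy ⟨z, hz⟩, smul_zero]
    | zero => exact smul_zero _
    | add a b _ _ ha hb => rw [smul_add, ha, hb, add_zero]
    | smul r a _ ha => rw [smul_comm, ha, smul_zero]
  choose s hs hsv using hkill
  -- the generator
  obtain ⟨s₁, hs₁, hs₁g⟩ : ∃ s₁ ∈ Q.primeCompl,
      ∀ y : Abelian.Ext (ModuleCat.of P A) (ModuleCat.of P P) c, ∃ a : P, s₁ • y = a • x := by
    obtain ⟨F, hF⟩ := (inferInstance :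
      Module.Finite P (Abelian.Ext (ModuleCat.of P A) (ModuleCat.of P P) c))
    choose u a hu hua using fun y : F => hgen y.1
    refine ⟨∏ y, u y, Submonoid.prod_mem _ fun y _ => hu y, fun y => ?_⟩
    have hy : y ∈ Submodule.span P (F : Set _) := by rw [hF]; trivial
    induction hy using Submodule.span_induction with
    | mem z hz =>
      obtain ⟨k, hk⟩ := Finset.dvd_prod_of_mem u (Finset.mem_univ (⟨z, hz⟩ : F))
      exact ⟨k * a ⟨z, hz⟩, by rw [hk, mul_comm, mul_smul, hua ⟨z, hz⟩, mul_smul]⟩
    | zero => exact ⟨0, by rw [smul_zero, zero_smul]⟩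
    | add a b _ _ ha hb =>
      obtain ⟨r, hr⟩ := ha
      obtain ⟨r', hr'⟩ := hb
      exact ⟨r + r', by rw [smul_add, hr, hr', add_smul]⟩
    | smul r a _ ha =>
      obtain ⟨r', hr'⟩ := ha
      exact ⟨r * r', by rw [smul_comm, hr', mul_smul]⟩
  -- the annihilator
  obtain ⟨s₂, hs₂, hs₂a⟩ : ∃ s₂ ∈ Q.primeCompl,
      ∀ a : P, a • x = 0 → algebraMap P A (s₂ * a) = 0 := by
    obtain ⟨F, hF⟩ := (IsNoetherian.noetherian (LinearMap.ker (LinearMap.toSpanSingleton P _ x)))
    choose u hu hua using fun a : F => hann a.1 (by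
      have : a.1 ∈ LinearMap.ker (LinearMap.toSpanSingleton P _ x) :=
        hF ▸ Submodule.subset_span a.2
      simpa using this)
    refine ⟨∏ a, u a, Submonoid.prod_mem _ fun a _ => hu a, fun a ha => ?_⟩
    have hy : a ∈ Submodule.span P (F : Set P) := by
      rw [hF]; simpa using ha
    clear ha
    induction hy using Submodule.span_induction with
    | mem z hz =>
      obtain ⟨k, hk⟩ := Finset.dvd_prod_of_mem u (Finset.mem_univ (⟨z, hz⟩ : F))
      rw [hk, mul_comm (u ⟨z, hz⟩) k, mul_assoc, map_mul, hua ⟨z, hz⟩, mul_zero]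
    | zero => rw [mul_zero, map_zero]
    | add a b _ _ ha hb => rw [mul_add, map_add, ha, hb, add_zero]
    | smul r a _ ha => rw [smul_eq_mul, mul_left_comm, map_mul, ha, mul_zero]
  let t : P := s₁ * s₂ * ∏ i ∈ Finset.range (n + 1), if h : i ≠ c then s i h else 1
  have ht : t ∈ Q.primeCompl := by
    refine mul_mem (mul_mem hs₁ hs₂) (Submonoid.prod_mem _ fun i _ => ?_)
    split_ifs with h
    exacts [hs i h, hone]
  refine ⟨algebraMap P A t, ht, fun q' _ hq' => ?_⟩
  have hmul : ∀ a b : P, algebraMap P A (a * b) ∉ q' → algebraMap P A a ∉ q' ∧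
      algebraMap P A b ∉ q' := fun a b h => by
    rw [map_mul] at h
    exact ⟨fun ha => h (q'.mul_mem_right _ ha), fun hb => h (q'.mul_mem_left _ hb)⟩
  obtain ⟨h12, h3⟩ := hmul _ _ hq'
  obtain ⟨h1, h2⟩ := hmul _ _ h12
  have hx0 : ∀ a : P, algebraMap P A a = 0 → a • x = 0 := by
    intro a ha
    rw [← ExtHomPresent.pb_id x, ← ExtHomPresent.pb_smul,
      show a • (LinearMap.id : A →ₗ[P] A) = 0 from LinearMap.ext fun z => by
        rw [LinearMap.smul_apply, LinearMap.id_apply, Algebra.smul_def, ha, zero_mul,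
          LinearMap.zero_apply],
      ExtHomPresent.pb_zero]
  have hres := local_of_structure hsurj q' c (fun i hi y => by
      by_cases hin : i ≤ n
      · refine ⟨s i hi, ?_, hsv i hi y⟩
        obtain ⟨k, hk⟩ := Finset.dvd_prod_of_mem (fun i => if h : i ≠ c then s i h else 1)
          (Finset.mem_range.2 (Nat.lt_succ_of_le hin))
        rw [hk, dif_pos hi] at h3
        exact (hmul _ _ h3).1
      · obtain ⟨ψ, hψ⟩ := exists_localizing hsurj q' i
        have := subsingleton_lext hsurj q' i (by omega)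
        obtain ⟨u, hu⟩ := hψ.eq_zero y (Subsingleton.elim _ _)
        exact ⟨u.1, u.2, hu⟩)
    x (fun y => by
      obtain ⟨a, ha⟩ := hs₁g y
      exact ⟨s₁, a, h1, ha⟩)
    (fun a ha => ⟨s₂, h2, hs₂a a ha⟩) hx0
  exact (GorFibrePrime.prime_iff (n := n) hsurj q').2 c hres.1 hres.2

/-- The Gorenstein locus of a flat algebra of finite type is open. -/
theorem isOpen_fibreAt (R A : Type u) [CommRing R] [IsNoetherianRing R] [CommRing A] [Algebra R A]
    [Module.Flat R A] [Algebra.FiniteType R A] :
    IsOpen {q : PrimeSpectrum A |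
      LocCoh.IsGorensteinLocalRing (GorFibrePrime.FibreAt R q.asIdeal)} := by
  obtain ⟨n, ψ, hψ⟩ := Algebra.FiniteType.iff_quotient_mvPolynomial''.1
    (inferInstance : Algebra.FiniteType R A)
  letI := ψ.toRingHom.toAlgebra
  haveI : IsScalarTower R (MvPolynomial (Fin n) R) A :=
    IsScalarTower.of_algebraMap_eq fun r => (ψ.commutes r).symm
  refine isOpen_iff_forall_mem_open.2 fun q hq => ?_
  obtain ⟨t, ht, h⟩ := exists_nhd (n := n) (R := R) (A := A) hψ q.asIdeal hq
  exact ⟨PrimeSpectrum.basicOpen t, fun q' hq' => h q'.asIdeal hq',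
    (PrimeSpectrum.basicOpen t).2, ht⟩

end Groth.Agent.Lib.GorenMor.OpenRing
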