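import Groth.Agent.Lib.GorenMor.BaseChange
import Groth.Agent.Lib.GorenMor.OpenRing
import Groth.Agent.H26.FibreRegStalk
import Groth.Agent.H46.NoethModel

/-!
# Gorenstein morphisms: locality and openness of the Gorenstein locus
-/

set_option autoImplicit false
set_option linter.style.haveILetI false

universe u

open CategoryTheory CategoryTheory.Limits AlgebraicGeometry IsLocalRing LocCoh
open Groth.Agent.H46.UnivOpenFinite

namespace Groth.Agent.Lib.GorenMor.Local

variable {X Y Z : Scheme.{u}}

/-- Smooth morphisms are Gorenstein. -/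
theorem isGorensteinAt_of_smooth (f : X ⟶ Y) [Smooth f] (x : X) : Dual3.IsGorensteinAt f x := by
  refine ⟨Flat.stalkMap f x, ?_⟩
  haveI := H26.FibreRegStalk.isRegularLocalRing_fiberStalk f x
  exact Lib.Goren.Basic.isGorensteinLocalRing_of_isRegular (CInt.fiberStalk f x)

/-- Being Gorenstein is local on the source. -/
theorem openImmersion_comp_iff (j : X ⟶ Y) [IsOpenImmersion j] (f : Y ⟶ Z) [LocallyOfFiniteType f]
    (x : X) : Dual3.IsGorensteinAt (j ≫ f) x ↔ Dual3.IsGorensteinAt f (j x) :=
  ⟨fun h => (Comp.isGorensteinAt_of_comp j f x h (Flat.stalkMap j x)).2,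
    fun h => Comp.isGorensteinAt_comp j f x (BaseChange.isLocallyNoetherian_fiber _)
      (isGorensteinAt_of_smooth j x) h⟩

/-- Being Gorenstein is local on the target. -/
theorem comp_openImmersion_iff (f : X ⟶ Y) [LocallyOfFiniteType f] (v : Y ⟶ Z) [IsOpenImmersion v]
    (x : X) : Dual3.IsGorensteinAt (f ≫ v) x ↔ Dual3.IsGorensteinAt f x := by
  have sq : IsPullback (𝟙 X) f (f ≫ v) v :=
    (IsPullback.id_horiz f).paste_vert (IsKernelPair.id_of_mono v)
  have hN := BaseChange.isLocallyNoetherian_fiber (f := f ≫ v) ((f ≫ v) ((𝟙 X : X ⟶ X) x))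
  refine ⟨fun h => BaseChange.isGorensteinAt_baseChange sq x hN (Or.inl inferInstance) h, fun h => ?_⟩
  have := BaseChange.isGorensteinAt_of_baseChange sq x hN (Or.inl inferInstance)
    (BaseChange.flat_of_baseChange sq x (Flat.stalkMap v _) h.1) h
  exact this

/-- On affine schemes: the closed fibre of the localization. -/
theorem sm_iff (R A : Type u) [CommRing R] [CommRing A] [Algebra R A] [Module.Flat R A]
    (q : PrimeSpectrum A) :
    Dual3.IsGorensteinAt (sm R A) q ↔
      IsGorensteinLocalRing (DMod.GorFibrePrime.FibreAt R q.asIdeal) := by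
  have hfl : Flat (sm R A) :=
    (HasRingHomProperty.Spec_iff (P := @Flat)).2 (RingHom.flat_algebraMap_iff.2 inferInstance)
  refine (Comp.isGorensteinAt_iff (sm R A) q).trans
    ((and_iff_right (Flat.stalkMap (sm R A) q)).trans ?_)
  let φ : CommRingCat.of R ⟶ CommRingCat.of A := CommRingCat.ofHom (algebraMap R A)
  let p := (q.comap φ.hom).asIdeal
  let ψ : Localization.AtPrime p →+* Localization.AtPrime q.asIdeal :=
    Localization.localRingHom p q.asIdeal φ.hom rfl
  let e₁ := (Spec.stalkIso (CommRingCat.of R) (q.comap φ.hom)).commRingCatIsoToRingEquiv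
  let e₂ := (Spec.stalkIso (CommRingCat.of A) q).commRingCatIsoToRingEquiv
  haveI : IsLocalRing ((Spec (CommRingCat.of R)).presheaf.stalk (q.comap φ.hom)) :=
    inferInstanceAs (IsLocalRing ((Spec (CommRingCat.of R)).presheaf.stalk (sm R A q)))
  have hcomm : e₂.toRingHom.comp ((Spec.map φ).stalkMap q).hom = ψ.comp e₁.toRingHom :=
    (congrArg CommRingCat.Hom.hom (Scheme.arrowStalkMapSpecIso φ q).hom.w).symm
  have hmap : ((maximalIdeal ((Spec (CommRingCat.of R)).presheaf.stalk (sm R A q))).map
      ((sm R A).stalkMap q).hom).map e₂.toRingHom =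
      (q.asIdeal.comap (algebraMap R A)).map (algebraMap R (Localization.AtPrime q.asIdeal)) := by
    rw [Ideal.map_map]
    refine (congrArg (fun χ => Ideal.map χ _) hcomm).trans ?_
    refine (Ideal.map_map e₁.toRingHom ψ).symm.trans
      ((congrArg (Ideal.map ψ)
        (IsLocalRing.map_maximalIdeal_of_surjective e₁.toRingHom e₁.surjective)).trans ?_)
    refine (congrArg (Ideal.map ψ) (Localization.AtPrime.map_eq_maximalIdeal (I := p)).symm).trans
      ((Ideal.map_map _ _).trans ?_)
    refine congrArg₂ Ideal.map (RingHom.ext fun r => ?_) rfl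
    exact (Localization.localRingHom_to_map p q.asIdeal φ.hom rfl r).trans
      (IsScalarTower.algebraMap_apply R A (Localization.AtPrime q.asIdeal) r).symm
  exact Goren.Flat.isGorensteinLocalRing_ringEquiv_iff
    (Ideal.quotientEquiv _ _ e₂ hmap.symm)

/-- The Gorenstein locus of a flat morphism locally of finite presentation is open. -/
theorem isOpen_gorensteinLocus (f : X ⟶ Y) [LocallyOfFinitePresentation f] :
    IsOpen {x : X | Dual3.IsGorensteinAt f x} := by
  rw [isOpen_iff_mem_nhds]
  intro x hx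
  obtain ⟨R, A, R₀, A₀, _, _, _, _, j, v, f₁, q, _, _, ⟨u, rfl⟩, hfac, hsq, _, _, _, _, _, hflat⟩ :=
    H46.NoethModel.exists_model_alg f x hx.1
  haveI : LocallyOfFiniteType (sm R₀ A₀) := lft_sm R₀ A₀
  haveI : Flat (sm R₀ A₀) :=
    (HasRingHomProperty.Spec_iff (P := @Flat)).2 (RingHom.flat_algebraMap_iff.2 inferInstance)
  haveI : LocallyOfFiniteType f₁ := MorphismProperty.of_isPullback hsq inferInstance
  have key : ∀ w, Dual3.IsGorensteinAt f (j w) ↔
      IsGorensteinLocalRing
        (DMod.GorFibrePrime.FibreAt R₀ (show PrimeSpectrum A₀ from q w).asIdeal) := fun w => by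
    rw [← openImmersion_comp_iff j f w, hfac, comp_openImmersion_iff f₁ v w, ← sm_iff R₀ A₀ (q w)]
    exact ⟨fun h => BaseChange.isGorensteinAt_of_baseChange hsq w
        (BaseChange.isLocallyNoetherian_fiber _) (Or.inr inferInstance) (Flat.stalkMap _ _) h,
      fun h => BaseChange.isGorensteinAt_baseChange hsq w
        (BaseChange.isLocallyNoetherian_fiber _) (Or.inr inferInstance) h⟩
  have ho := j.isOpenEmbedding.isOpenMap _
    ((OpenRing.isOpen_fibreAt R₀ A₀).preimage q.continuous)
  refine Filter.mem_of_superset (ho.mem_nhds ⟨u, (key u).1 hx, rfl⟩) ?_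
  rintro _ ⟨w, hw, rfl⟩
  exact (key w).2 hw

end Groth.Agent.Lib.GorenMor.Local
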