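import Groth.Agent.Lib.GorenMor.Local
import Groth.Agent.H54.CMAffine
import Groth.Agent.S0341

/-!
# Gorenstein morphisms and quasi-finite maps to affine space
-/

set_option autoImplicit false
set_option linter.style.haveILetI false

universe u

open CategoryTheory CategoryTheory.Limits AlgebraicGeometry IsLocalRing LocCoh
open Groth.Agent.H54

namespace Groth.Agent.Lib.GorenMor.AffineSpace

variable {X S : Scheme.{u}}

/-- Gorenstein at a point implies Cohen–Macaulay at the point. -/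
theorem isCMAt_of_isGorensteinAt (f : X ⟶ S) (x : X) (h : Dual3.IsGorensteinAt f x) :
    MoreMor.IsCMAt f x := by
  haveI := h.2
  exact ⟨h.1, Groth.Agent.S0341.result _⟩

theorem localFibreDim_eq (f : X ⟶ S) [LocallyOfFiniteType f] (x : X) :
    Dual3.localFibreDim f x = (H46.DimData.fe f x : WithBot ℕ∞) := by
  rw [← H46.DimData.fibreDimAt_eq, FlatMor.fibreDimAt, FlatMor.localDim, Dual3.localFibreDim,
    iInf_subtype]
  rfl

/-- Points where some quasi-finite chart to affine space exists. -/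
theorem exists_chart (f : X ⟶ S) [LocallyOfFinitePresentation f] (x : X) :
    ∃ (U : X.Opens) (_ : x ∈ U)
      (g : (U : Scheme.{u}) ⟶ 𝔸(ULift.{u} (Fin (H46.DimData.fe f x)); S)),
      g ≫ (𝔸(ULift.{u} (Fin (H46.DimData.fe f x)); S) ↘ S) = U.ι ≫ f ∧ LocallyQuasiFinite g ∧
        LocallyOfFinitePresentation g := by
  obtain ⟨W, w, _, z, h, _, hz, hover, hqf⟩ := CMAffine.exists_quasiFiniteAt_map f x
  let O : W.Opens := h.quasiFiniteLocus
  let j := O.ι ≫ w
  refine ⟨j.opensRange, ⟨⟨z, hqf⟩, hz⟩, j.isoOpensRange.inv ≫ O.ι ≫ h, ?_, ?_, inferInstance⟩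
  · simp only [Category.assoc, hover]
    rw [← Category.assoc O.ι, ← Category.assoc]
    simp [j]
  · have : LocallyQuasiFinite (O.ι ≫ h) := by
      rw [← Scheme.Hom.quasiFiniteLocus_eq_top_iff]
      refine top_le_iff.1 fun o _ => ?_
      rw [Scheme.Hom.mem_quasiFiniteLocus, Scheme.Hom.quasiFiniteAt_comp_iff_of_isOpenImmersion]
      exact o.2
    infer_instance

/-- If `f` is Gorenstein at a point, so is every map to affine space of the fibre dimension which is
quasi-finite there. -/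
theorem isGorensteinAt_of_chart (f : X ⟶ S) [LocallyOfFinitePresentation f] {d : ℕ} (U : X.Opens)
    (g : (U : Scheme.{u}) ⟶ 𝔸(ULift.{u} (Fin d); S))
    (hg : g ≫ (𝔸(ULift.{u} (Fin d); S) ↘ S) = U.ι ≫ f) (u : (U : Scheme.{u}))
    (hd : H46.DimData.fe f (U.ι u) = d) (hqf : Dual3.QuasiFiniteAt g u)
    (h : Dual3.IsGorensteinAt f (U.ι u)) : Dual3.IsGorensteinAt g u := by
  haveI : LocallyOfFiniteType (g ≫ (𝔸(ULift.{u} (Fin d); S) ↘ S)) := hg ▸ inferInstance
  haveI : LocallyOfFinitePresentation (g ≫ (𝔸(ULift.{u} (Fin d); S) ↘ S)) := hg ▸ inferInstance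
  haveI : LocallyOfFiniteType g := locallyOfFiniteType_of_comp g (𝔸(ULift.{u} (Fin d); S) ↘ S)
  have h' : Dual3.IsGorensteinAt (g ≫ (𝔸(ULift.{u} (Fin d); S) ↘ S)) u := by
    simp only [hg]
    exact (Local.openImmersion_comp_iff U.ι f u).2 h
  have hfl := CMAffine.flat_of_isCMAt g u (Scheme.Hom.quasiFiniteAt_iff_isOpen_singleton_asFiber.2 hqf)
    (isCMAt_of_isGorensteinAt _ _ h') (by
      simp only [hg]
      rw [CMAffine.fe_openImmersion_comp U.ι f u, hd])
  exact (Comp.isGorensteinAt_of_comp g _ u h' hfl).1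

/-- A map to affine space Gorenstein at a point makes `f` Gorenstein there. -/
theorem isGorensteinAt_of_map (f : X ⟶ S) [LocallyOfFiniteType f] {d : ℕ} (U : X.Opens)
    (g : (U : Scheme.{u}) ⟶ 𝔸(ULift.{u} (Fin d); S))
    (hg : g ≫ (𝔸(ULift.{u} (Fin d); S) ↘ S) = U.ι ≫ f) (u : (U : Scheme.{u}))
    (h : Dual3.IsGorensteinAt g u) : Dual3.IsGorensteinAt f (U.ι u) := by
  haveI : LocallyOfFiniteType (g ≫ (𝔸(ULift.{u} (Fin d); S) ↘ S)) := hg ▸ inferInstance
  haveI := CMAffine.smooth_affineSpace d S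
  rw [← Local.openImmersion_comp_iff U.ι f u, ← hg]
  exact Comp.isGorensteinAt_comp g _ u (BaseChange.isLocallyNoetherian_fiber _) h
    (Local.isGorensteinAt_of_smooth _ _)

/-- Gorenstein at a point: near it there is a quasi-finite Gorenstein map to affine space. -/
theorem exists_gorensteinMor (f : X ⟶ S) [LocallyOfFinitePresentation f] (x : X)
    (h : Dual3.IsGorensteinAt f x) :
    ∃ (U : X.Opens) (_ : x ∈ U)
      (g : (U : Scheme.{u}) ⟶ 𝔸(ULift.{u} (Fin (H46.DimData.fe f x)); S)),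
      g ≫ (𝔸(ULift.{u} (Fin (H46.DimData.fe f x)); S) ↘ S) = U.ι ≫ f ∧ LocallyQuasiFinite g ∧
        Dual3.IsGorensteinMor g := by
  obtain ⟨U, hx, g, hg, _, _⟩ := exists_chart f x
  have hG : Dual3.IsGorensteinAt g ⟨x, hx⟩ := isGorensteinAt_of_chart f U g hg ⟨x, hx⟩ rfl
    (Scheme.Hom.quasiFiniteAt_iff_isOpen_singleton_asFiber.1 (Scheme.Hom.quasiFiniteAt g _)) h
  let O : (U : Scheme.{u}).Opens := ⟨_, Local.isOpen_gorensteinLocus g⟩
  refine ⟨U.ι ''ᵁ O, ⟨⟨x, hx⟩, hG, rfl⟩, (U.ι.isoImage O).inv ≫ O.ι ≫ g, ?_, inferInstance,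
    fun v => ?_⟩
  · simp only [Category.assoc, hg]
    rw [Scheme.Hom.isoImage_inv_ι_assoc]
  · rw [Local.openImmersion_comp_iff (U.ι.isoImage O).inv (O.ι ≫ g),
      Local.openImmersion_comp_iff O.ι g]
    exact ((U.ι.isoImage O).inv v).2

end Groth.Agent.Lib.GorenMor.AffineSpace
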