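import Groth.Agent.Lib.GorenMor.Etale
import Groth.Agent.Lib.AlgSpMor.LocP
import Groth.Agent.Lib.AlgSpDecent.CodimOneSp
import Groth.Agent.Lib.AlgSpDecent.RelDimBC
import Groth.Agent.Lib.Flat55.FlatLocusBC
import Groth.Prelude.Def_AlgSpDec

/-!
# Gorenstein morphisms of algebraic spaces at a point, read on charts
-/

set_option autoImplicit false
set_option linter.style.haveILetI false

universe u

open CategoryTheory CategoryTheory.Limits AlgebraicGeometry IsLocalRing

namespace Groth.Agent.Lib.GorenMor.AlgSp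

open _root_.AlgSp (Sp yon RepWith IsAlgSpace LocP LocPAt Points FieldPt IsLocNoethSp)
open Groth.Agent.Lib.AlgSpace Groth.Agent.Lib.AlgSpMor

variable {S : Scheme.{u}}

/-- All fibres over field-valued points are locally Noetherian algebraic spaces. -/
abbrev NoethFibres {X Y : Sp S} (f : X ⟶ Y) : Prop :=
  ∀ (k : FieldPt Y) (Xk : Sp S) (a : Xk ⟶ X) (b : Xk ⟶ (yon S).obj k.pt),
    IsPullback a b f k.toHom → IsLocNoethSp Xk

set_option maxHeartbeats 1000000 in
/-- The fibres of a chart of a morphism with locally Noetherian fibres are locally Noetherian. -/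
theorem isLocallyNoetherian_fiber_chart {X Y : Sp S} (hY : IsAlgSpace Y) {f : X ⟶ Y}
    (hf : NoethFibres f) {U V : Over S} {a : (yon S).obj U ⟶ X} {b : (yon S).obj V ⟶ Y}
    {h : U ⟶ V} (ha : RepWith @Etale a) (hb : RepWith @Etale b)
    (w : a ≫ f = (yon S).map h ≫ b) (v : V.left) : IsLocallyNoetherian (h.left.fiber v) := by
  let k := FieldPt.ofPt b v
  let i : k.pt ⟶ V := Over.homMk (V.left.fromSpecResidueField v) rfl
  have hi : (yon S).map i ≫ b = k.toHom := by
    apply (_root_.AlgSp.J S).uliftYonedaEquiv.injective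
    rw [_root_.AlgSp.FieldPt.uliftYonedaEquiv_toHom]
    rfl
  obtain ⟨T, t₁, t₂, sqT⟩ := exists_isPullback_yon hY.diag b k.toHom
  haveI : Etale t₂.left := repWith_property hb sqT
  have sqQ := IsPullback.of_hasPullback h t₁
  let Q := Limits.pullback h t₁
  have sqUW : IsPullback ((yon S).map (pullback.fst h t₁)) ((yon S).map (pullback.snd h t₁ ≫ t₂))
      (a ≫ f) (𝟙 _ ≫ k.toHom) := by
    rw [w, Functor.map_comp, Category.id_comp]
    exact (isPullback_yon sqQ).paste_vert sqT
  have sqX := IsPullback.of_hasPullback f k.toHom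
  haveI : MorphismProperty.IsStableUnderComposition (@Etale : MorphismProperty Scheme.{u}) :=
    ⟨fun f g (_ : Etale f) (_ : Etale g) ↦ inferInstanceAs (Etale (f ≫ g))⟩
  haveI : MorphismProperty.ContainsIdentities (@Etale : MorphismProperty Scheme.{u}) :=
    ⟨fun X => inferInstanceAs (Etale (𝟙 X))⟩
  have hl := Flat55.FlatLocusBC.repWith_lift sqX sqUW ha
    (_root_.AlgSp.repWith_id (@Etale : MorphismProperty Scheme.{u}) k.pt)
  haveI : IsLocallyNoetherian (Limits.pullback h t₁).left :=
    AlgSpDecent.CodimOneSp.isLocallyNoetherian_chart (hf k _ _ _ sqX) hl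
  obtain ⟨s, hs⟩ := (yon S).map_surjective (sqT.lift ((yon S).map i) (𝟙 _)
    (by rw [hi, Category.id_comp]))
  have hs1 : s ≫ t₁ = i := (yon S).map_injective (by rw [Functor.map_comp, hs, sqT.lift_fst])
  have hs2 : s ≫ t₂ = 𝟙 _ := (yon S).map_injective (by
    rw [Functor.map_comp, hs, sqT.lift_snd, CategoryTheory.Functor.map_id])
  haveI : LocallyOfFiniteType s.left := by
    have : LocallyOfFiniteType (s.left ≫ t₂.left) := by
      rw [← Over.comp_left, hs2, Over.id_left]; infer_instance
    exact locallyOfFiniteType_of_comp s.left t₂.left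
  let s₀ : Spec (V.left.residueField v) ⟶ T.left := s.left
  have hs₀ : LocallyOfFiniteType s₀ := ‹LocallyOfFiniteType s.left›
  have hi' : V.left.fromSpecResidueField v = s₀ ≫ t₁.left := by
    show i.left = s.left ≫ t₁.left
    rw [← Over.comp_left, hs1]
  have sqL : IsPullback (pullback.fst h t₁).left (pullback.snd h t₁).left h.left t₁.left :=
    sqQ.map (Over.forget S)
  let m : h.left.fiber v ⟶ (Limits.pullback h t₁).left :=
    sqL.lift (h.left.fiberι v) (h.left.fiberToSpecResidueField v ≫ s₀) (by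
      rw [Category.assoc, ← hi']
      exact h.left.fiber_fac v)
  have sqm : IsPullback m (h.left.fiberToSpecResidueField v) (pullback.snd h t₁).left s₀ := by
    refine IsPullback.of_right ?_ (sqL.lift_snd _ _ _) sqL
    rw [sqL.lift_fst, ← hi']
    exact IsPullback.of_hasPullback h.left (V.left.fromSpecResidueField v)
  haveI : LocallyOfFiniteType m :=
    MorphismProperty.of_isPullback (P := @LocallyOfFiniteType) sqm.flip hs₀
  exact LocallyOfFiniteType.isLocallyNoetherian m

/-- Gorenstein at a point can be tested in one chart diagram. -/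
theorem gorAt_of_chart {X Y : Sp S} (hX : IsAlgSpace X) (hY : IsAlgSpace Y) {f : X ⟶ Y}
    {U V : Over S} {a : (yon S).obj U ⟶ X} {b : (yon S).obj V ⟶ Y} {h : U ⟶ V}
    (ha : RepWith @Etale a) (hb : RepWith @Etale b) (w : a ≫ f = (yon S).map h ≫ b)
    (u : ↥U.left) (hu : Dual3.IsGorensteinAt h.left u) :
    LocPAt (fun h u => Dual3.IsGorensteinAt h u) f (Points.ofPt a u) := by
  intro U' V' a' b' h' u' ha' hb' w' he
  obtain ⟨U'', p, q, sq⟩ := exists_isPullback_yon hX.diag a a'
  obtain ⟨W, r, r', sqW⟩ := exists_isPullback_yon hY.diag b b'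
  haveI : Etale p.left := repWith_property ha' sq.flip
  haveI : Etale q.left := repWith_property ha sq
  haveI : Etale r.left := repWith_property hb' sqW.flip
  haveI : Etale r'.left := repWith_property hb sqW
  obtain ⟨k, hk⟩ := (yon S).map_surjective (sqW.lift ((yon S).map (p ≫ h)) ((yon S).map (q ≫ h'))
    (by rw [Functor.map_comp, Functor.map_comp, Category.assoc, Category.assoc, ← w, ← w',
      reassoc_of% sq.w]))
  have k1 : k ≫ r = p ≫ h := (yon S).map_injective (by rw [Functor.map_comp, hk, sqW.lift_fst])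
  have k2 : k ≫ r' = q ≫ h' := (yon S).map_injective (by rw [Functor.map_comp, hk, sqW.lift_snd])
  obtain ⟨z, rfl, rfl⟩ := (ofPt_eq_ofPt_iff_of_isPullback sq u u').1 he.symm
  have h1 : Dual3.IsGorensteinAt (k.left ≫ r.left) z := by
    rw [← Over.comp_left, k1, Over.comp_left]
    exact (Etale.isGorensteinAt_precomp_iff p.left h.left z).2 hu
  refine Etale.isGorensteinAt_of_precomp q.left h'.left z ?_
  rw [← Over.comp_left, ← k2, Over.comp_left]
  exact (Etale.isGorensteinAt_postcomp_iff k.left r'.left z).2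
    ((Etale.isGorensteinAt_postcomp_iff k.left r.left z).1 h1)

/-- Gorenstein at a point is read on any chart diagram through it. -/
theorem gorAt_iff_chart {X Y : Sp S} (hX : IsAlgSpace X) (hY : IsAlgSpace Y) {f : X ⟶ Y}
    {U V : Over S} {a : (yon S).obj U ⟶ X} {b : (yon S).obj V ⟶ Y} {h : U ⟶ V}
    (ha : RepWith @Etale a) (hb : RepWith @Etale b) (w : a ≫ f = (yon S).map h ≫ b)
    (u : ↥U.left) :
    LocPAt (fun h u => Dual3.IsGorensteinAt h u) f (Points.ofPt a u) ↔
      Dual3.IsGorensteinAt h.left u :=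
  ⟨fun H => H a b h u ha hb w rfl, gorAt_of_chart hX hY ha hb w u⟩

end Groth.Agent.Lib.GorenMor.AlgSp
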