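import Groth.Agent.Lib.Goren.Flat
import Groth.Agent.H54.CMMor
import Groth.Prelude.Def_Dual3

/-!
# Gorenstein morphisms: composition

The criterion `IsGorensteinAt f x ↔ flat ∧ O_{X,x}/m_y O_{X,x}` Gorenstein and the behaviour under
composition, following `Groth.Agent.H54.CMMor`.
-/

set_option autoImplicit false

universe u

open CategoryTheory AlgebraicGeometry IsLocalRing LocCoh

namespace Groth.Agent.Lib.GorenMor.Comp

open Groth.Agent.Lib.Goren.Flat

section Ring

variable (A B C : Type u) [CommRing A] [CommRing B] [CommRing C]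
  [IsLocalRing A] [IsLocalRing B] [IsLocalRing C]
  [Algebra A B] [Algebra A C] [Algebra B C] [IsScalarTower A B C]
  [IsLocalHom (algebraMap A B)] [IsLocalHom (algebraMap B C)] [Module.Flat B C]
  [IsNoetherianRing (C ⧸ (maximalIdeal A).map (algebraMap A C))]

/-- Fibre of a composite: Gorenstein iff both fibres are. -/
theorem gor_fibre_iff :
    IsGorensteinLocalRing (C ⧸ (maximalIdeal A).map (algebraMap A C)) ↔
      IsGorensteinLocalRing (B ⧸ (maximalIdeal A).map (algebraMap A B)) ∧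
      IsGorensteinLocalRing (C ⧸ (maximalIdeal B).map (algebraMap B C)) := by
  obtain ⟨h1, h2, h3, h4, heq⟩ := H54.CMMor.fibre_setup A B C
  let J := (maximalIdeal A).map (algebraMap A B)
  let K := J.map (algebraMap B C)
  let eC : (C ⧸ K) ≃+* C ⧸ (maximalIdeal A).map (algebraMap A C) := Ideal.quotEquivOfEq heq
  haveI : IsNoetherianRing (C ⧸ K) := isNoetherianRing_of_ringEquiv _ eC.symm
  haveI : IsNoetherianRing (B ⧸ J) :=
    H21.SkDescent.isNoetherianRing_of_faithfullyFlat (B ⧸ J) (C ⧸ K)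
  have hJ : J ≤ maximalIdeal B := IsLocalRing.map_maximalIdeal_le (algebraMap A B)
  have hmB : (maximalIdeal B).map (Ideal.Quotient.mk J) = maximalIdeal (B ⧸ J) :=
    IsLocalRing.map_maximalIdeal_of_surjective _ Ideal.Quotient.mk_surjective
  have hfib : (maximalIdeal (B ⧸ J)).map (algebraMap (B ⧸ J) (C ⧸ K)) =
      ((maximalIdeal B).map (algebraMap B C)).map (Ideal.Quotient.mk K) := by
    exact (congrArg (Ideal.map _) hmB.symm).trans ((Ideal.map_map _ _).trans
      ((congrArg (fun φ : B →+* C ⧸ K => (maximalIdeal B).map φ) (RingHom.ext fun _ => rfl)).trans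
        (Ideal.map_map (algebraMap B C) (Ideal.Quotient.mk K)).symm))
  let e : ((C ⧸ K) ⧸ (maximalIdeal (B ⧸ J)).map (algebraMap (B ⧸ J) (C ⧸ K))) ≃+*
      C ⧸ (maximalIdeal B).map (algebraMap B C) :=
    (Ideal.quotEquivOfEq hfib).trans ((DoubleQuot.quotQuotEquivQuotSup K _).trans
      (Ideal.quotEquivOfEq (sup_eq_right.2 (Ideal.map_mono hJ))))
  have key := isGorensteinLocalRing_flat_iff (B ⧸ J) (C ⧸ K)
  rw [← isGorensteinLocalRing_ringEquiv_iff eC, key, isGorensteinLocalRing_ringEquiv_iff e]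

end Ring

variable {X Y Z : Scheme.{u}}

/-- `f` is Gorenstein at `x` iff flat at `x` with `O_{X,x}/m_y O_{X,x}` Gorenstein. -/
theorem isGorensteinAt_iff (f : X ⟶ Y) (x : X) :
    Dual3.IsGorensteinAt f x ↔ (f.stalkMap x).hom.Flat ∧
      IsGorensteinLocalRing (X.presheaf.stalk x ⧸
        (maximalIdeal (Y.presheaf.stalk (f x))).map (f.stalkMap x).hom) :=
  and_congr_right' (isGorensteinLocalRing_ringEquiv_iff (H46.FiberStalk.quotientEquiv f x)).symm

theorem isGorensteinAt_comp' (f : X ⟶ Y) (g : Y ⟶ Z) (x : X)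
    (hNq : IsNoetherianRing (X.presheaf.stalk x ⧸
      (maximalIdeal (Z.presheaf.stalk ((f ≫ g) x))).map ((f ≫ g).stalkMap x).hom))
    (hf : Dual3.IsGorensteinAt f x) (hg : Dual3.IsGorensteinAt g (f x)) :
    Dual3.IsGorensteinAt (f ≫ g) x := by
  rw [isGorensteinAt_iff] at hf hg ⊢
  have hflat : ((f ≫ g).stalkMap x).hom.Flat := by
    rw [Scheme.Hom.stalkMap_comp]
    exact RingHom.Flat.comp hg.1 hf.1
  refine ⟨hflat, ?_⟩
  algebraize [(g.stalkMap (f x)).hom, (f.stalkMap x).hom]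
  letI : Algebra (Z.presheaf.stalk (g (f x))) (X.presheaf.stalk x) :=
    ((f ≫ g).stalkMap x).hom.toAlgebra
  haveI : IsScalarTower (Z.presheaf.stalk (g (f x))) (Y.presheaf.stalk (f x)) (X.presheaf.stalk x) :=
    .of_algebraMap_eq' (congrArg (fun φ => φ.hom) (Scheme.Hom.stalkMap_comp f g x))
  haveI : IsLocalHom (algebraMap (Z.presheaf.stalk (g (f x))) (Y.presheaf.stalk (f x))) :=
    g.toLRSHom.prop (f x)
  haveI : IsLocalHom (algebraMap (Y.presheaf.stalk (f x)) (X.presheaf.stalk x)) := f.toLRSHom.prop x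
  haveI : Module.Flat (Y.presheaf.stalk (f x)) (X.presheaf.stalk x) := hf.1
  haveI : IsNoetherianRing (X.presheaf.stalk x ⧸ (maximalIdeal (Z.presheaf.stalk (g (f x)))).map
      (algebraMap (Z.presheaf.stalk (g (f x))) (X.presheaf.stalk x))) := hNq
  exact (gor_fibre_iff (Z.presheaf.stalk (g (f x))) (Y.presheaf.stalk (f x))
    (X.presheaf.stalk x)).2 ⟨hg.2, hf.2⟩

theorem isGorensteinAt_comp (f : X ⟶ Y) (g : Y ⟶ Z) (x : X)
    (hN : IsLocallyNoetherian ((f ≫ g).fiber (g (f x))))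
    (hf : Dual3.IsGorensteinAt f x) (hg : Dual3.IsGorensteinAt g (f x)) :
    Dual3.IsGorensteinAt (f ≫ g) x :=
  isGorensteinAt_comp' f g x (H54.CMMor.isNoetherianRing_quotient (f ≫ g) x hN) hf hg

theorem isGorensteinAt_of_comp (f : X ⟶ Y) (g : Y ⟶ Z) (x : X)
    (h : Dual3.IsGorensteinAt (f ≫ g) x) (hfl : (f.stalkMap x).hom.Flat) :
    Dual3.IsGorensteinAt f x ∧ Dual3.IsGorensteinAt g (f x) := by
  rw [isGorensteinAt_iff] at h ⊢
  rw [isGorensteinAt_iff]
  algebraize [(g.stalkMap (f x)).hom, (f.stalkMap x).hom]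
  letI : Algebra (Z.presheaf.stalk (g (f x))) (X.presheaf.stalk x) :=
    ((f ≫ g).stalkMap x).hom.toAlgebra
  haveI : IsScalarTower (Z.presheaf.stalk (g (f x))) (Y.presheaf.stalk (f x)) (X.presheaf.stalk x) :=
    .of_algebraMap_eq' (congrArg (fun φ => φ.hom) (Scheme.Hom.stalkMap_comp f g x))
  haveI : IsLocalHom (algebraMap (Z.presheaf.stalk (g (f x))) (Y.presheaf.stalk (f x))) :=
    g.toLRSHom.prop (f x)
  haveI : IsLocalHom (algebraMap (Y.presheaf.stalk (f x)) (X.presheaf.stalk x)) := f.toLRSHom.prop x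
  haveI : Module.Flat (Y.presheaf.stalk (f x)) (X.presheaf.stalk x) := hfl
  haveI : Module.Flat (Z.presheaf.stalk (g (f x))) (X.presheaf.stalk x) := h.1
  haveI : IsNoetherianRing (X.presheaf.stalk x ⧸ (maximalIdeal (Z.presheaf.stalk (g (f x)))).map
      (algebraMap (Z.presheaf.stalk (g (f x))) (X.presheaf.stalk x))) :=
    (by have h2 := h.2; exact @IsGorensteinLocalRing.toIsNoetherian _ _ h2)
  obtain ⟨hg, hf⟩ := (gor_fibre_iff (Z.presheaf.stalk (g (f x))) (Y.presheaf.stalk (f x))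
    (X.presheaf.stalk x)).1 h.2
  haveI : Module.FaithfullyFlat (Y.presheaf.stalk (f x)) (X.presheaf.stalk x) :=
    Module.FaithfullyFlat.of_flat_of_isLocalHom
  exact ⟨⟨hfl, hf⟩, Lib.SourceDescent.Ring.flat_of_comp _ _ (X.presheaf.stalk x), hg⟩

end Groth.Agent.Lib.GorenMor.Comp
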