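import Groth.Agent.Lib.GorenMor.Local
import Groth.Agent.Lib.Unram.StalkTower
import Mathlib.RingTheory.Unramified.LocalRing

/-!
# Gorenstein morphisms and étale maps on source and target
-/

set_option autoImplicit false
set_option linter.style.haveILetI false

universe u

open CategoryTheory CategoryTheory.Limits AlgebraicGeometry IsLocalRing LocCoh

namespace Groth.Agent.Lib.GorenMor.Etale

variable {A B C : Scheme.{u}}

/-- Fibre rings stay Noetherian after a map locally of finite type on the source. -/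
theorem isNoetherianRing_quotient_comp (e : A ⟶ B) [LocallyOfFiniteType e] (g : B ⟶ C) (z : A)
    (hN : IsNoetherianRing (B.presheaf.stalk (e z) ⧸
      (maximalIdeal (C.presheaf.stalk (g (e z)))).map (g.stalkMap (e z)).hom)) :
    IsNoetherianRing (A.presheaf.stalk z ⧸
      (maximalIdeal (C.presheaf.stalk ((e ≫ g) z))).map ((e ≫ g).stalkMap z).hom) := by
  have hes := LocallyOfFiniteType.stalkMap e z
  let J := (maximalIdeal (C.presheaf.stalk (g (e z)))).map (g.stalkMap (e z)).hom
  let K := J.map (e.stalkMap z).hom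
  have hK : K = (maximalIdeal (C.presheaf.stalk ((e ≫ g) z))).map ((e ≫ g).stalkMap z).hom :=
    ((congrArg (fun m => Ideal.map (CommRingCat.Hom.hom m) _)
      (Scheme.Hom.stalkMap_comp e g z)).trans (Ideal.map_map _ _).symm).symm
  let φ : (B.presheaf.stalk (e z) ⧸ J) →+* (A.presheaf.stalk z ⧸ K) :=
    Ideal.quotientMap K (e.stalkMap z).hom Ideal.le_comap_map
  have hφ : φ.EssFiniteType := by
    refine RingHom.EssFiniteType.of_comp (f := Ideal.Quotient.mk J) ?_
    exact RingHom.EssFiniteType.stableUnderComposition _ (Ideal.Quotient.mk K) hes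
      (RingHom.FiniteType.essFiniteType (RingHom.FiniteType.of_surjective _ Ideal.Quotient.mk_surjective))
  algebraize [φ]
  haveI : IsNoetherianRing (B.presheaf.stalk (e z) ⧸ J) := hN
  haveI : IsNoetherianRing (A.presheaf.stalk z ⧸ K) :=
    Algebra.EssFiniteType.isNoetherianRing (B.presheaf.stalk (e z) ⧸ J) (A.presheaf.stalk z ⧸ K)
  exact hK ▸ this

theorem isGorensteinAt_precomp_iff (e : A ⟶ B) [Etale e] (g : B ⟶ C) (z : A) :
    Dual3.IsGorensteinAt (e ≫ g) z ↔ Dual3.IsGorensteinAt g (e z) := by
  refine ⟨fun h => (Comp.isGorensteinAt_of_comp e g z h (Flat.stalkMap e z)).2, fun h => ?_⟩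
  have hg := ((Comp.isGorensteinAt_iff g (e z)).1 h).2
  exact Comp.isGorensteinAt_comp' e g z (isNoetherianRing_quotient_comp e g z hg.toIsNoetherian)
    (Local.isGorensteinAt_of_smooth e z) h

theorem isGorensteinAt_of_precomp (e : A ⟶ B) [Etale e] (g : B ⟶ C) (z : A)
    (h : Dual3.IsGorensteinAt (e ≫ g) z) : Dual3.IsGorensteinAt g (e z) :=
  (Comp.isGorensteinAt_of_comp e g z h (Flat.stalkMap e z)).2

theorem isGorensteinAt_postcomp_iff (g : A ⟶ B) (e : B ⟶ C) [Etale e] (z : A) :
    Dual3.IsGorensteinAt (g ≫ e) z ↔ Dual3.IsGorensteinAt g z := by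
  rw [Comp.isGorensteinAt_iff, Comp.isGorensteinAt_iff]
  have hmax : (maximalIdeal (C.presheaf.stalk (e (g z)))).map (e.stalkMap (g z)).hom =
      maximalIdeal (B.presheaf.stalk (g z)) := by
    have hu := FormallyUnramified.stalkMap e (g z)
    have he := LocallyOfFiniteType.stalkMap e (g z)
    algebraize [(e.stalkMap (g z)).hom]
    haveI : IsLocalHom (algebraMap (C.presheaf.stalk (e (g z))) (B.presheaf.stalk (g z))) :=
      e.toLRSHom.prop (g z)
    exact Algebra.FormallyUnramified.map_maximalIdeal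
  have hq : (maximalIdeal (C.presheaf.stalk ((g ≫ e) z))).map ((g ≫ e).stalkMap z).hom =
      (maximalIdeal (B.presheaf.stalk (g z))).map (g.stalkMap z).hom := by
    exact (congrArg (fun m => Ideal.map (CommRingCat.Hom.hom m) _)
      (Scheme.Hom.stalkMap_comp g e z)).trans ((Ideal.map_map _ _).symm.trans (congrArg _ hmax))
  refine and_congr ⟨fun h => ?_, fun h => ?_⟩
    (Goren.Flat.isGorensteinLocalRing_ringEquiv_iff (Ideal.quotEquivOfEq hq))
  · exact Unram.StalkTower.flat_stalkMap_of_unramified g e z (FormallyUnramified.stalkMap e (g z)) h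
  · rw [Scheme.Hom.stalkMap_comp]
    exact RingHom.Flat.comp (Flat.stalkMap e (g z)) h

end Groth.Agent.Lib.GorenMor.Etale
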