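import Groth.Agent.Lib.GorenMor.AlgSp
import Groth.Agent.Lib.Henselian.Permanence

/-!
# Gorenstein local rings along flat and etale morphisms, and on charts of algebraic spaces
-/

set_option autoImplicit false
set_option linter.style.haveILetI false

universe u

open CategoryTheory CategoryTheory.Limits AlgebraicGeometry IsLocalRing LocCoh

namespace Groth.Agent.Lib.GorenMor.Space

section Scheme

variable {A B : Scheme.{u}}

/-- A morphism flat at a point with Gorenstein local ring is Gorenstein there, and the local ring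
of the image is Gorenstein. -/
theorem gorAt_of_flat (g : A ⟶ B) [IsLocallyNoetherian B] (z : A)
    (hz : IsGorensteinLocalRing (A.presheaf.stalk z)) (hg : (g.stalkMap z).hom.Flat) :
    Dual3.IsGorensteinAt g z ∧ IsGorensteinLocalRing (B.presheaf.stalk (g z)) := by
  haveI : IsNoetherianRing (A.presheaf.stalk z) := hz.toIsNoetherian
  letI := (g.stalkMap z).hom.toAlgebra
  haveI : IsLocalHom (algebraMap (B.presheaf.stalk (g z)) (A.presheaf.stalk z)) := g.toLRSHom.prop z
  haveI : Module.Flat (B.presheaf.stalk (g z)) (A.presheaf.stalk z) := hg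
  have h := (Goren.Flat.isGorensteinLocalRing_flat_iff (B.presheaf.stalk (g z)) (A.presheaf.stalk z)).1 hz
  exact ⟨(Comp.isGorensteinAt_iff g z).2 ⟨hg, h.2⟩, h.1⟩

/-- Being Gorenstein is etale local on Noetherian schemes. -/
theorem gor_stalk_iff_of_etale (e : A ⟶ B) [Etale e] [IsLocallyNoetherian B] (z : A) :
    IsGorensteinLocalRing (A.presheaf.stalk z) ↔ IsGorensteinLocalRing (B.presheaf.stalk (e z)) := by
  haveI : IsLocallyNoetherian A := LocallyOfFiniteType.isLocallyNoetherian e
  obtain ⟨hfl, hq⟩ := (Comp.isGorensteinAt_iff e z).1 (Local.isGorensteinAt_of_smooth e z)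
  letI := (e.stalkMap z).hom.toAlgebra
  haveI : IsLocalHom (algebraMap (B.presheaf.stalk (e z)) (A.presheaf.stalk z)) := e.toLRSHom.prop z
  haveI : Module.Flat (B.presheaf.stalk (e z)) (A.presheaf.stalk z) := hfl
  rw [Goren.Flat.isGorensteinLocalRing_flat_iff (B.presheaf.stalk (e z)) (A.presheaf.stalk z)]
  exact ⟨fun h => h.1, fun h => ⟨h, hq⟩⟩

end Scheme

/-- A strict henselization of a Gorenstein local ring is Gorenstein. -/
theorem gor_strictHenselization (A R : Type u) [CommRing A] [IsLocalRing A] [CommRing R]
    [IsLocalRing R] [Algebra A R] [IsLocalHom (algebraMap A R)] [Hensel.IsStrictHenselization A R]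
    (hA : IsGorensteinLocalRing A) : IsGorensteinLocalRing R := by
  haveI : IsNoetherianRing A := hA.toIsNoetherian
  haveI : IsNoetherianRing R := Henselian.Permanence.strict_isNoetherianRing A R
  haveI : Module.FaithfullyFlat A R := Henselian.StrictHenselization.faithfullyFlat A R
  refine (Goren.Flat.isGorensteinLocalRing_flat_iff A R).2 ⟨hA, ?_⟩
  have hm : (maximalIdeal A).map (algebraMap A R) = maximalIdeal R := by
    let e := Henselian.StrictHenselization.equivOfIsStrictHenselization A R
    have h := Henselian.StrictHenselization.map_maximalIdeal_self A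
    rw [← e.toAlgHom.comp_algebraMap, ← Ideal.map_map, h]
    exact IsLocalRing.map_maximalIdeal_of_surjective e.toAlgHom.toRingHom e.surjective
  rw [hm]
  haveI : IsField (R ⧸ maximalIdeal R) :=
    (Ideal.Quotient.maximal_ideal_iff_isField_quotient _).1 inferInstance
  exact Goren.Basic.isGorensteinLocalRing_of_isRegular (ResidueField R)

open _root_.AlgSp (Sp yon RepWith IsAlgSpace Points IsLocNoethSp EtaleLocally)
open Groth.Agent.Lib.AlgSpace

variable {S : Scheme.{u}}

/-- Every etale chart of a Gorenstein algebraic space is a Gorenstein scheme. -/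
theorem gor_chart {X : Sp S} (hX : IsAlgSpace X) (hG : EtaleLocally Dual3.IsGorenstein X)
    {U : Over S} {a : (yon S).obj U ⟶ X} (ha : RepWith @Etale a) : Dual3.IsGorenstein U.left := by
  obtain ⟨U₀, p₀, hp, hps, hN, hG⟩ := hG
  obtain ⟨W, r, r', sq⟩ := exists_isPullback_yon hX.diag a p₀
  haveI : Etale r.left := repWith_property hp sq.flip
  haveI : Etale r'.left := repWith_property ha sq
  haveI : Surjective r.left := repWith_property hps sq.flip
  haveI := hN
  haveI : IsLocallyNoetherian U.left :=
    AlgSpDecent.CodimOneSp.isLocallyNoetherian_chart ⟨U₀, p₀, hp, hps, hN⟩ ha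
  refine ⟨inferInstance, fun u => ?_⟩
  obtain ⟨w, rfl⟩ := r.left.surjective u
  exact (gor_stalk_iff_of_etale r.left w).1 ((gor_stalk_iff_of_etale r'.left w).2 (hG _))

end Groth.Agent.Lib.GorenMor.Space
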