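import Groth.Agent.Lib.GorenMor.Space

/-!
# Gorenstein fibres of a morphism of algebraic spaces, read on charts
-/

set_option autoImplicit false
set_option linter.style.haveILetI false

universe u

open CategoryTheory CategoryTheory.Limits AlgebraicGeometry IsLocalRing LocCoh

namespace Groth.Agent.Lib.GorenMor.SpaceFibre

open _root_.AlgSp (Sp yon RepWith IsAlgSpace LocP LocPAt Points FieldPt IsLocNoethSp EtaleLocally)
open Groth.Agent.Lib.AlgSpace Groth.Agent.Lib.AlgSpMor

variable {S : Scheme.{u}}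

/-- The points of the fibre over `v` are the points of the source over `v`. -/
theorem forall_fiber_iff {A B : Scheme.{u}} (g : A ⟶ B) (v : B) :
    (∀ z : g.fiber v, IsGorensteinLocalRing ((g.fiber v).presheaf.stalk z)) ↔
      ∀ q : A, g q = v → IsGorensteinLocalRing ((g.fiber (g q)).presheaf.stalk (g.asFiber q)) := by
  refine ⟨fun H q hq => by subst hq; exact H _, fun H z => ?_⟩
  have hz : g (g.fiberι v z) = v := by
    have : g.fiberι v z ∈ Set.range (g.fiberι v) := ⟨z, rfl⟩
    rwa [g.range_fiberι v] at this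
  obtain ⟨q, hq⟩ : ∃ q, q = g.fiberι v z := ⟨_, rfl⟩
  rw [← hq] at hz
  subst hz
  have : g.asFiber q = z :=
    (g.fiberι (g q)).isEmbedding.injective ((g.fiberι_asFiber q).trans hq)
  exact this ▸ H q rfl

variable {X Y : Sp S} {f : X ⟶ Y}

/-- The fibre space over a point `v` of an etale chart `V` of `Y` is Gorenstein iff the fibre over
`v` of the induced chart `Q ⟶ V` has Gorenstein local rings. -/
theorem gorFibre_iff (hX : IsAlgSpace X) (hY : IsAlgSpace Y) (hf : AlgSp.NoethFibres f)
    {U V Q : Over S} {a : (yon S).obj U ⟶ X} (ha : RepWith @Etale a) (has : RepWith @Surjective a)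
    {b : (yon S).obj V ⟶ Y} {q₀ : Q ⟶ U} {k : Q ⟶ V}
    (sq : IsPullback ((yon S).map q₀) ((yon S).map k) (a ≫ f) b) (v : V.left) (Xv : Sp S)
    {a' : Xv ⟶ X} {c' : Xv ⟶ (yon S).obj (Over.mk (V.left.fromSpecResidueField v ≫ V.hom))}
    (sqv : IsPullback a' c' f ((yon S).map (Over.homMk (V.left.fromSpecResidueField v) rfl :
      Over.mk (V.left.fromSpecResidueField v ≫ V.hom) ⟶ V) ≫ b)) :
    EtaleLocally Dual3.IsGorenstein Xv ↔
      ∀ z : k.left.fiber v, IsGorensteinLocalRing ((k.left.fiber v).presheaf.stalk z) := by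
  let T : Over S := Over.mk (V.left.fromSpecResidueField v ≫ V.hom)
  let tb : T ⟶ V := Over.homMk (V.left.fromSpecResidueField v) rfl
  let g : (yon S).obj T ⟶ Y := (yon S).map tb ≫ b
  let kp : FieldPt Y := ⟨V.left.residueField v, T.hom, secEquiv T g⟩
  have hk : kp.toHom = g := (secEquiv T).symm_apply_apply g
  have hN : IsLocNoethSp Xv := hf kp _ a' c' (hk.symm ▸ sqv)
  have sqF := IsPullback.of_hasPullback k tb
  have sqQ : IsPullback ((yon S).map (pullback.fst k tb) ≫ (yon S).map q₀)
      ((yon S).map (pullback.snd k tb)) (a ≫ f) g :=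
    (isPullback_yon sqF).paste_horiz sq
  let c : (yon S).obj (pullback k tb) ⟶ Xv :=
    sqv.lift (((yon S).map (pullback.fst k tb) ≫ (yon S).map q₀) ≫ a)
      ((yon S).map (pullback.snd k tb)) (by rw [Category.assoc]; exact sqQ.w)
  have sqc : IsPullback ((yon S).map (pullback.fst k tb) ≫ (yon S).map q₀) c a a' :=
    IsPullback.of_bot (by rw [sqv.lift_snd]; exact sqQ) (sqv.lift_fst _ _ _).symm sqv
  have hc : RepWith @Etale c := repWith_baseChange sqc ha
  have hcs : RepWith @Surjective c := repWith_baseChange sqc has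
  haveI hQ : IsLocallyNoetherian (pullback k tb).left :=
    AlgSpDecent.CodimOneSp.isLocallyNoetherian_chart hN hc
  let e : k.left.fiber v ≅ (pullback k tb).left := ((sqF.map (Over.forget S)).isoPullback).symm
  haveI : Etale e.hom := inferInstance
  have key : (∀ z : k.left.fiber v, IsGorensteinLocalRing ((k.left.fiber v).presheaf.stalk z)) ↔
      ∀ y : (pullback k tb).left, IsGorensteinLocalRing ((pullback k tb).left.presheaf.stalk y) := by
    refine ⟨fun H y => ?_, fun H z => (Space.gor_stalk_iff_of_etale e.hom z).2 (H _)⟩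
    obtain ⟨z, rfl⟩ := e.hom.surjective y
    exact (Space.gor_stalk_iff_of_etale e.hom z).1 (H z)
  rw [key]
  refine ⟨fun H => ?_, fun H => ⟨_, c, hc, hcs, hQ, H⟩⟩
  have hXv : IsAlgSpace Xv := isAlgSpace_of_isPullback sqv hY.diag hX (_root_.AlgSp.IsAlgSpace.yon_obj _)
  exact (Space.gor_chart hXv H hc).2

end Groth.Agent.Lib.GorenMor.SpaceFibre
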